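import Groth.Agent.DynLib.Weight
import Groth.Agent.S16480
import Mathlib.AlgebraicGeometry.Pullbacks
import Mathlib.Algebra.Category.Ring.Constructions
import Mathlib.RingTheory.Nilpotent.Basic

/-!
Over a field the big cell of any affine algebraic group is open.
-/

set_option autoImplicit false
set_option linter.style.haveILetI false
set_option backward.isDefEq.respectTransparency.types false

noncomputable section

open LaurentPolynomial TensorProduct WithConv CoordGrp AlgebraicGeometry CategoryTheory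

universe u

namespace Groth.Agent.DynLib

variable {k : Type u} [CommRing k]

instance formallySmooth_GLn (n : ℕ) : Algebra.FormallySmooth k (GLn n k) := by
  refine Algebra.FormallySmooth.of_comp_surjective fun B _ _ I hI f => ?_
  let q : B →ₐ[k] B ⧸ I := Ideal.Quotient.mkₐ k I
  have hq : ∀ x, ∃ y, q y = x := Ideal.Quotient.mk_surjective
  choose M hM using fun p : Fin n × Fin n => hq (f (GLn.X p.1 p.2))
  obtain ⟨d, hd⟩ := hq (f GLn.Dinv)
  let Mm : Matrix (Fin n) (Fin n) B := Matrix.of fun i j => M (i, j)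
  have hdet : q Mm.det = f GLn.det := by
    rw [AlgHom.map_det, GLn.det_eq, AlgHom.map_det]
    congr 1
    ext i j
    exact hM (i, j)
  have hker : Mm.det * d - 1 ∈ I := Ideal.Quotient.eq.1
    (show q (Mm.det * d) = q 1 by rw [map_mul, hdet, hd, ← map_mul, GLn.det_mul_Dinv, map_one, map_one])
  have hnil : IsNilpotent (Mm.det * d - 1) := ⟨2, by
    rw [pow_two]
    exact Ideal.mem_bot.1 (hI ▸ pow_two I ▸ Ideal.mul_mem_mul hker hker)⟩
  obtain ⟨v, hv⟩ := hnil.isUnit_one_add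
  rw [add_sub_cancel] at hv
  let d' : B := d * ((v⁻¹ : Bˣ) : B)
  have hd' : Mm.det * d' = 1 := by rw [← mul_assoc, ← hv, Units.mul_inv]
  have hv1 : q ((v⁻¹ : Bˣ) : B) = 1 := by
    have h1 : q (v : B) = 1 := by rw [hv, map_mul, hdet, hd, ← map_mul, GLn.det_mul_Dinv, map_one]
    have := congrArg q (Units.inv_mul v)
    rwa [map_mul, h1, mul_one, map_one] at this
  refine ⟨GLn.pt n k Mm d' hd', GLn.algHom_ext (fun i j => ?_) ?_⟩
  · rw [AlgHom.comp_apply, GLn.pt_X]; exact hM (i, j)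
  · rw [AlgHom.comp_apply, GLn.pt_Dinv]
    show q (d * _) = _
    rw [map_mul, hd, hv1, mul_one]

instance finitePresentation_GLn (n : ℕ) : Algebra.FinitePresentation k (GLn n k) := by
  haveI : Algebra.FinitePresentation k (GLb n k) :=
    show Algebra.FinitePresentation k (MvPolynomial (GLPoly.Idx n) k) from inferInstance
  exact (Algebra.FinitePresentation.quotient (R := k) (I := GLb.relIdeal n k)
    (Submodule.fg_span (Set.finite_singleton _)) :)

theorem isOpenImmersion_cell_field {k A : Type u} [Field k] [CommRing A] [HopfAlgebra k A] [Algebra.FiniteType k A]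
    {lam lamNeg : A →ₐc[k] k[T;T⁻¹]} (hneg : (lamNeg : A →ₐ[k] k[T;T⁻¹]) = Dyn.negParam k A lam)
    {Jm Jp : Ideal A}
    (hp : Dyn.Represents k A Jp (fun R _ _ g => Dyn.LimExists k A lam R g))
    (hm : Dyn.Represents k A Jm (fun R _ _ g => Dyn.LimIsOne k A lamNeg R g)) :
    IsOpenImmersion (Spec.map (CommRingCat.ofHom (cellHom k Jm Jp).toRingHom)) := by
  obtain ⟨n, π, hπ⟩ := Groth.Agent.S16480.result k A
  let lH := lam.comp π
  let lNH := lamNeg.comp π
  let Jm' := oneIdeal lNH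
  let Jp' := limIdeal lH
  have hopen := isOpenImmersion_cell (k := k) (A := GLn n k) (lam := lH) (lamNeg := lNH) (negParam_comp π hneg)
    (Jm := Jm') (Jp := Jp') (fun R _ _ g => (kills_limIdeal_iff lH g).trans (limExists_iff lH g).symm)
    (fun R _ _ g => (kills_oneIdeal_iff lNH g).trans (limIsOne_iff lNH g).symm)
  letI : Algebra (GLn n k) A := (π : GLn n k →ₐ[k] A).toRingHom.toAlgebra
  haveI : IsScalarTower k (GLn n k) A :=
    IsScalarTower.of_algebraMap_eq fun r => ((π : GLn n k →ₐ[k] A).commutes r).symm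
  let CH := CellRing k Jm' Jp'
  let CA := CellRing k Jm Jp
  letI : Algebra (GLn n k) CA := ((cellHom k Jm Jp).toRingHom.comp (algebraMap (GLn n k) A)).toAlgebra
  haveI : IsScalarTower k (GLn n k) CA := IsScalarTower.of_algebraMap_eq fun r => by
    show algebraMap k CA r = cellHom k Jm Jp (algebraMap (GLn n k) A (algebraMap k (GLn n k) r))
    rw [← IsScalarTower.algebraMap_apply k (GLn n k) A]
    exact ((cellHom k Jm Jp).commutes r).symm
  have hkm : ∀ (R : Type u) [CommRing R] [Algebra k R] (w : Pt k A R),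
      (∀ a ∈ Jm, w.ofConv a = 0) ↔ w ∈ oneSub R lamNeg := fun R _ _ w => kills_iff_oneSub hm w
  have hkp : ∀ (R : Type u) [CommRing R] [Algebra k R] (w : Pt k A R),
      (∀ a ∈ Jp, w.ofConv a = 0) ↔ w ∈ limSub R lam := fun R _ _ w => kills_iff_limSub hp w
  have hfm : ∀ a ∈ Jm', Ideal.Quotient.mkₐ k Jm (π a) = 0 := fun a ha =>
    (kills_oneIdeal_iff lNH _).2 ((pull_mem_oneSub_iff π hπ lamNeg (toConv (Ideal.Quotient.mkₐ k Jm))).2
      ((hkm _ _).1 fun _ => Ideal.Quotient.eq_zero_iff_mem.2)) a ha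
  have hfp : ∀ a ∈ Jp', Ideal.Quotient.mkₐ k Jp (π a) = 0 := fun a ha =>
    (kills_limIdeal_iff lH _).2 ((pull_mem_limSub_iff π hπ lam (toConv (Ideal.Quotient.mkₐ k Jp))).2
      ((hkp _ _).1 fun _ => Ideal.Quotient.eq_zero_iff_mem.2)) a ha
  let θ₀ : (GLn n k ⧸ Jm') ⊗[k] (GLn n k ⧸ Jp') →ₐ[k] (A ⧸ Jm) ⊗[k] (A ⧸ Jp) := Algebra.TensorProduct.map
    (Ideal.Quotient.liftₐ Jm' ((Ideal.Quotient.mkₐ k Jm).comp (π : GLn n k →ₐ[k] A)) hfm)
    (Ideal.Quotient.liftₐ Jp' ((Ideal.Quotient.mkₐ k Jp).comp (π : GLn n k →ₐ[k] A)) hfp)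
  have hθ₀ : ∀ h, θ₀ (cellHom k Jm' Jp' h) = cellHom k Jm Jp (π h) := fun h => by
    simp only [cellHom, AlgHom.comp_apply, Bialgebra.comulAlgHom_apply, θ₀]
    rw [← CoalgHomClass.map_comp_comul_apply]
    generalize CoalgebraStruct.comul (R := k) h = t
    induction t using TensorProduct.induction_on with
    | zero => simp
    | add x y hx hy => simp only [map_add, hx, hy]
    | tmul b c => rfl
  let θl : CH →ₐ[GLn n k] CA := { θ₀.toRingHom with commutes' := hθ₀ }
  let θr : A →ₐ[GLn n k] CA := { (cellHom k Jm Jp).toRingHom with commutes' := fun _ => rfl }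
  let Tn := CH ⊗[GLn n k] A
  let θ : Tn →ₐ[GLn n k] CA := Algebra.TensorProduct.lift θl θr fun _ _ => Commute.all _ _
  let ι : (GLn n k ⧸ Jm') ⊗[k] (GLn n k ⧸ Jp') →ₐ[k] Tn :=
    (Algebra.TensorProduct.includeLeft : CH →ₐ[k] Tn)
  let g : Pt k A Tn := toConv ((Algebra.TensorProduct.includeRight : A →ₐ[GLn n k] Tn).restrictScalars k)
  have hg : pull π g =
      toConv ((ι.comp Algebra.TensorProduct.includeLeft).comp (Ideal.Quotient.mkₐ k Jm')) *
        toConv ((ι.comp Algebra.TensorProduct.includeRight).comp (Ideal.Quotient.mkₐ k Jp')) := by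
    rw [← cellHom_point]
    exact WithConv.ext (AlgHom.ext fun h =>
      ((Algebra.TensorProduct.includeLeft : CH →ₐ[GLn n k] Tn).commutes h).trans
        ((Algebra.TensorProduct.includeRight : A →ₐ[GLn n k] Tn).commutes h).symm |>.symm)
  obtain ⟨u', p', hu', hp', hu, hpp⟩ := exists_factor π hπ hneg
    ((kills_oneIdeal_iff lNH _).1 fun a ha => by
      rw [AlgHom.comp_apply, Ideal.Quotient.mkₐ_eq_mk, Ideal.Quotient.eq_zero_iff_mem.2 ha, map_zero])
    ((kills_limIdeal_iff lH _).1 fun a ha => by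
      rw [AlgHom.comp_apply, Ideal.Quotient.mkₐ_eq_mk, Ideal.Quotient.eq_zero_iff_mem.2 ha, map_zero]) hg
  let ψ : (A ⧸ Jm) ⊗[k] (A ⧸ Jp) →ₐ[k] Tn := Algebra.TensorProduct.lift
    (Ideal.Quotient.liftₐ Jm u'.ofConv ((hkm _ u').2 hu'))
    (Ideal.Quotient.liftₐ Jp p'.ofConv ((hkp _ p').2 hp')) fun _ _ => Commute.all _ _
  have hψl : ∀ a, ψ (Ideal.Quotient.mk Jm a ⊗ₜ[k] 1) = u'.ofConv a := fun a => by
    simp only [ψ, Algebra.TensorProduct.lift_tmul, map_one, mul_one]; rfl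
  have hψr : ∀ a, ψ (1 ⊗ₜ[k] Ideal.Quotient.mk Jp a) = p'.ofConv a := fun a => by
    simp only [ψ, Algebra.TensorProduct.lift_tmul, map_one, one_mul]; rfl
  have hu₁ : ∀ h, u'.ofConv (π h) = ι (Ideal.Quotient.mk Jm' h ⊗ₜ[k] 1) := fun h =>
    congrArg (fun w : Pt k (GLn n k) Tn => w.ofConv h) hu
  have hp₁ : ∀ h, p'.ofConv (π h) = ι (1 ⊗ₜ[k] Ideal.Quotient.mk Jp' h) := fun h =>
    congrArg (fun w : Pt k (GLn n k) Tn => w.ofConv h) hpp
  have h1 : ψ.comp θ₀ = ι := by
    refine Algebra.TensorProduct.ext (Ideal.Quotient.algHom_ext k (AlgHom.ext fun h => ?_))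
      (Ideal.Quotient.algHom_ext k (AlgHom.ext fun h => ?_))
    · show ψ (θ₀ (Ideal.Quotient.mk Jm' h ⊗ₜ[k] 1)) = ι (Ideal.Quotient.mk Jm' h ⊗ₜ[k] 1)
      rw [Algebra.TensorProduct.map_tmul, map_one, ← hu₁, ← hψl]
      rfl
    · show ψ (θ₀ (1 ⊗ₜ[k] Ideal.Quotient.mk Jp' h)) = ι (1 ⊗ₜ[k] Ideal.Quotient.mk Jp' h)
      rw [Algebra.TensorProduct.map_tmul, map_one, ← hp₁, ← hψr]
      rfl
  have h2 : toConv (ψ.comp (cellHom k Jm Jp)) = g := by
    refine pull_injective π hπ ?_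
    rw [cellHom_point, map_mul, hg, ← hu, ← hpp]
    refine congrArg₂ _ (congrArg (pull π) ?_) (congrArg (pull π) ?_)
    · exact WithConv.ext (AlgHom.ext fun a => hψl a)
    · exact WithConv.ext (AlgHom.ext fun a => hψr a)
  have hl : ∀ x, ψ (θ x) = x := fun x => by
    induction x using TensorProduct.induction_on with
    | zero => rw [map_zero]; exact map_zero ψ
    | add x y hx hy => rw [map_add]; exact (map_add ψ _ _).trans (congrArg₂ _ hx hy)
    | tmul c a =>
      show ψ (θ₀ c * cellHom k Jm Jp a) = _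
      rw [map_mul, show ψ (cellHom k Jm Jp a) = (1 : CH) ⊗ₜ[GLn n k] a from
        congrArg (fun w : Pt k A Tn => w.ofConv a) h2,
        show ψ (θ₀ c) = c ⊗ₜ[GLn n k] (1 : A) from DFunLike.congr_fun h1 c,
        Algebra.TensorProduct.tmul_mul_tmul, mul_one, one_mul]
  have hθι : ∀ x, θ (ι x) = θ₀ x := fun x => by
    show θl x * θr 1 = _
    rw [map_one, mul_one]
    rfl
  have hr : ∀ x : (A ⧸ Jm) ⊗[k] (A ⧸ Jp), θ (ψ x) = x := by
    have : ((θ.restrictScalars k).comp ψ : (A ⧸ Jm) ⊗[k] (A ⧸ Jp) →ₐ[k] CA) =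
        (AlgHom.id k ((A ⧸ Jm) ⊗[k] (A ⧸ Jp)) :) := by
      refine Algebra.TensorProduct.ext (Ideal.Quotient.algHom_ext k (AlgHom.ext fun a => ?_))
        (Ideal.Quotient.algHom_ext k (AlgHom.ext fun a => ?_))
      · obtain ⟨h, rfl⟩ := hπ a
        show θ (ψ (Ideal.Quotient.mk Jm (π h) ⊗ₜ[k] 1)) = Ideal.Quotient.mk Jm (π h) ⊗ₜ[k] 1
        rw [hψl, hu₁, hθι, Algebra.TensorProduct.map_tmul, map_one]
        rfl
      · obtain ⟨h, rfl⟩ := hπ a
        show θ (ψ (1 ⊗ₜ[k] Ideal.Quotient.mk Jp (π h))) = 1 ⊗ₜ[k] Ideal.Quotient.mk Jp (π h)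
        rw [hψr, hp₁, hθι, Algebra.TensorProduct.map_tmul, map_one]
        rfl
    exact fun x => DFunLike.congr_fun this x
  let e : Tn ≃+* CA := RingEquiv.ofBijective θ.toRingHom
    ⟨Function.LeftInverse.injective (g := fun x : CA => ψ x) hl, fun x => ⟨ψ x, hr x⟩⟩
  have hpo : IsPushout (CommRingCat.ofHom (algebraMap (GLn n k) CH)) (CommRingCat.ofHom (algebraMap (GLn n k) A))
      (CommRingCat.ofHom θl.toRingHom) (CommRingCat.ofHom θr.toRingHom) := by
    refine (CommRingCat.isPushout_tensorProduct (GLn n k) CH A).of_iso (Iso.refl _) (Iso.refl _) (Iso.refl _)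
      e.toCommRingCatIso (by simp) (by simp) ?_ ?_
    · ext c
      show θl c * θr 1 = θl c
      rw [map_one, mul_one]
    · ext a
      show θl 1 * θr a = θr a
      rw [map_one, one_mul]
  have hpb := isPullback_SpecMap_of_isPushout _ _ _ _ hpo
  exact MorphismProperty.of_isPullback (P := @IsOpenImmersion) hpb hopen

end Groth.Agent.DynLib
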