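import Mathlib.Algebra.Polynomial.Laurent
import Mathlib.Algebra.Polynomial.AlgebraMap
import Mathlib.Algebra.MonoidAlgebra.Basic

/-!
Laurent polynomials over a base ring: functoriality, evaluation, and the polynomial part.
-/

set_option autoImplicit false
set_option linter.style.haveILetI false
set_option backward.isDefEq.respectTransparency.types false

universe u

open LaurentPolynomial

namespace Groth.Agent.DynLib

variable {k : Type u} [CommRing k] {R R' S : Type u} [CommRing R] [Algebra k R] [CommRing R'] [Algebra k R']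
  [CommRing S] [Algebra k S]

variable (k R) in
/-- Constants. -/
noncomputable def cst : R →ₐ[k] R[T;T⁻¹] := IsScalarTower.toAlgHom k R R[T;T⁻¹]

theorem cst_apply (r : R) : cst k R r = C r := (C_eq_algebraMap r).symm

theorem Lext {φ ψ : R[T;T⁻¹] →ₐ[k] S} (hC : ∀ r, φ (C r) = ψ (C r)) (hT : φ (T 1) = ψ (T 1)) : φ = ψ := by
  have hneg : φ (T (-1)) = ψ (T (-1)) := by
    have e1 : φ (T (-1)) * φ (T 1) = 1 := by rw [← map_mul, ← T_add]; simp
    have e2 : φ (T 1) * ψ (T (-1)) = 1 := by rw [hT, ← map_mul, ← T_add]; simp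
    exact left_inv_eq_right_inv e1 e2
  refine AlgHom.ext fun f => ?_
  induction f using LaurentPolynomial.induction_on' with
  | add p q hp hq => rw [map_add, map_add, hp, hq]
  | C_mul_T n a =>
    rw [map_mul, map_mul, hC]
    congr 1
    obtain ⟨m, rfl | rfl⟩ := Int.eq_nat_or_neg n
    · rw [show ((m : ℤ)) = m * 1 by ring, ← T_pow, map_pow, map_pow, hT]
    · rw [show (-(m : ℤ)) = m * (-1) by ring, ← T_pow, map_pow, map_pow, hneg]

theorem Lext' {φ ψ : k[T;T⁻¹] →ₐ[k] S} (hT : φ (T 1) = ψ (T 1)) : φ = ψ :=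
  Lext (fun r => by rw [C_eq_algebraMap, AlgHom.commutes, AlgHom.commutes]) hT

/-- Functoriality. -/
noncomputable def Lmap (φ : R →ₐ[k] R') : R[T;T⁻¹] →ₐ[k] R'[T;T⁻¹] := AddMonoidAlgebra.mapAlgHom ℤ φ

@[simp] theorem Lmap_T (φ : R →ₐ[k] R') (n : ℤ) : Lmap φ (T n) = T n := by
  simp only [Lmap, T, AddMonoidAlgebra.mapAlgHom_single, map_one]

@[simp] theorem Lmap_C (φ : R →ₐ[k] R') (r : R) : Lmap φ (C r) = C (φ r) :=
  AddMonoidAlgebra.mapAlgHom_single φ 0 r

@[simp] theorem Lmap_coeff (φ : R →ₐ[k] R') (f : R[T;T⁻¹]) (n : ℤ) : (Lmap φ f).coeff n = φ (f.coeff n) := by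
  induction f using LaurentPolynomial.induction_on' with
  | add p q hp hq => simp only [map_add, AddMonoidAlgebra.coeff_add, Finsupp.add_apply, hp, hq]
  | C_mul_T m a =>
    rw [map_mul, Lmap_C, Lmap_T, ← single_eq_C_mul_T, ← single_eq_C_mul_T]
    rw [AddMonoidAlgebra.coeff_single, AddMonoidAlgebra.coeff_single, Finsupp.single_apply, Finsupp.single_apply]
    split_ifs <;> simp

theorem Lmap_injective (φ : R →ₐ[k] R') (hφ : Function.Injective φ) : Function.Injective (Lmap φ) :=
  fun f g h => LaurentPolynomial.ext fun n => hφ (by rw [← Lmap_coeff, h, Lmap_coeff])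

theorem Lmap_cst (φ : R →ₐ[k] R') : (Lmap φ).comp (cst k R) = (cst k R').comp φ :=
  AlgHom.ext fun r => by simp [cst_apply]

variable (k R) in
/-- Polynomials as Laurent polynomials. -/
noncomputable def jay : Polynomial R →ₐ[k] R[T;T⁻¹] := (Polynomial.toLaurentAlg (R := R)).restrictScalars k

theorem jay_injective : Function.Injective (jay k R) := Polynomial.toLaurent_injective

theorem jay_coeff_neg (p : Polynomial R) {n : ℤ} (hn : n < 0) : (jay k R p).coeff n = 0 := by
  induction p using Polynomial.induction_on' with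
  | add p q hp hq => simp only [map_add, AddMonoidAlgebra.coeff_add, Finsupp.add_apply, hp, hq, add_zero]
  | monomial m a =>
    show (Polynomial.toLaurent (Polynomial.monomial m a)).coeff n = 0
    rw [← Polynomial.C_mul_X_pow_eq_monomial, Polynomial.toLaurent_C_mul_X_pow, ← single_eq_C_mul_T,
      AddMonoidAlgebra.coeff_single, Finsupp.single_apply, if_neg (by omega)]

theorem jay_coeff_zero (p : Polynomial R) : (jay k R p).coeff 0 = p.coeff 0 := by
  induction p using Polynomial.induction_on' with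
  | add p q hp hq =>
    simp only [map_add, AddMonoidAlgebra.coeff_add, Finsupp.add_apply, hp, hq, Polynomial.coeff_add]
  | monomial m a =>
    show (Polynomial.toLaurent (Polynomial.monomial m a)).coeff 0 = _
    rw [← Polynomial.C_mul_X_pow_eq_monomial, Polynomial.toLaurent_C_mul_X_pow, ← single_eq_C_mul_T,
      AddMonoidAlgebra.coeff_single, Finsupp.single_apply, Polynomial.coeff_C_mul_X_pow]
    simp [eq_comm]

theorem mem_range_jay {f : R[T;T⁻¹]} (h : ∀ n < 0, f.coeff n = 0) : f ∈ (jay k R).range := by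
  refine ⟨LaurentPolynomial.trunc f, ?_⟩
  show Polynomial.toLaurent (LaurentPolynomial.trunc f) = f
  have hsum : f = f.coeff.sum fun n a => (AddMonoidAlgebra.single n a : R[T;T⁻¹]) :=
    (AddMonoidAlgebra.sum_coeff_single f).symm
  conv_rhs => rw [hsum]
  conv_lhs => rw [hsum]
  rw [map_finsuppSum, map_finsuppSum]
  refine Finsupp.sum_congr fun n hn => ?_
  have hn0 : 0 ≤ n := le_of_not_gt fun hlt => Finsupp.mem_support_iff.mp hn (h n hlt)
  rw [single_eq_C_mul_T, trunc_C_mul_T, if_pos hn0, ← Polynomial.C_mul_X_pow_eq_monomial,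
    Polynomial.toLaurent_C_mul_X_pow, Int.toNat_of_nonneg hn0]

theorem eq_C_of_coeff {f : R[T;T⁻¹]} (h : ∀ n ≠ 0, f.coeff n = 0) : f = C (f.coeff 0) := by
  refine LaurentPolynomial.ext fun n => ?_
  rw [C_apply]
  split_ifs with hn
  · rw [hn]
  · exact h n hn

variable (k R) in
/-- Evaluation at `1`. -/
noncomputable def ev1 : R[T;T⁻¹] →ₐ[k] R where
  __ := LaurentPolynomial.eval₂ (RingHom.id R) 1
  commutes' c := by
    show LaurentPolynomial.eval₂ (RingHom.id R) 1 (algebraMap k R[T;T⁻¹] c) = algebraMap k R c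
    rw [IsScalarTower.algebraMap_apply k R R[T;T⁻¹], ← C_eq_algebraMap, eval₂_C]
    rfl

@[simp] theorem ev1_C (r : R) : ev1 k R (C r) = r := eval₂_C _ _ r

@[simp] theorem ev1_T (n : ℤ) : ev1 k R (T n) = 1 := by
  show LaurentPolynomial.eval₂ (RingHom.id R) 1 (T n) = 1
  rw [eval₂_T]; simp

variable (k R) in
/-- Evaluation at `0` of polynomials. -/
noncomputable def ev0 : Polynomial R →ₐ[k] R := (Polynomial.aeval (R := R) (0 : R)).restrictScalars k

theorem ev0_apply (p : Polynomial R) : ev0 k R p = p.coeff 0 := by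
  simp [ev0, Polynomial.coeff_zero_eq_aeval_zero]

variable (k R) in
/-- The inversion `T ↦ T⁻¹`. -/
noncomputable def inv' : R[T;T⁻¹] →ₐ[k] R[T;T⁻¹] := (invert (R := R)).toAlgHom.restrictScalars k

@[simp] theorem inv'_coeff (f : R[T;T⁻¹]) (n : ℤ) : (inv' k R f).coeff n = f.coeff (-n) := invert_apply f n

theorem inv'_cst : (inv' k R).comp (cst k R) = cst k R :=
  AlgHom.ext fun r => by simp [inv', cst_apply]

variable (k R) in
/-- The scaling `X ↦ X S`. -/
noncomputable def mu' : Polynomial R →ₐ[k] (Polynomial R)[T;T⁻¹] where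
  __ := Polynomial.eval₂RingHom ((C : Polynomial R →+* _).comp Polynomial.C) (C Polynomial.X * T 1)
  commutes' c := by
    show Polynomial.eval₂ _ _ (algebraMap k (Polynomial R) c) = _
    rw [IsScalarTower.algebraMap_apply k R (Polynomial R), Polynomial.algebraMap_eq, Polynomial.eval₂_C,
      RingHom.comp_apply, IsScalarTower.algebraMap_apply k (Polynomial R) (Polynomial R)[T;T⁻¹],
      ← C_eq_algebraMap, IsScalarTower.algebraMap_apply k R (Polynomial R), Polynomial.algebraMap_eq]

@[simp] theorem mu'_C (r : R) : mu' k R (Polynomial.C r) = C (Polynomial.C r) := Polynomial.eval₂_C _ _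

@[simp] theorem mu'_X : mu' k R Polynomial.X = C Polynomial.X * T 1 := Polynomial.eval₂_X _ _

variable (k R) in
/-- The scaling `T ↦ T S`. -/
noncomputable def mu : R[T;T⁻¹] →ₐ[k] (R[T;T⁻¹])[T;T⁻¹] where
  __ := LaurentPolynomial.eval₂ ((C : R[T;T⁻¹] →+* _).comp (C : R →+* R[T;T⁻¹]))
    ((isUnit_T (R := R) 1).map (C : R[T;T⁻¹] →+* _) |>.mul (isUnit_T 1)).unit
  commutes' c := by
    show LaurentPolynomial.eval₂ _ _ (algebraMap k R[T;T⁻¹] c) = _
    rw [IsScalarTower.algebraMap_apply k R R[T;T⁻¹], ← C_eq_algebraMap, eval₂_C, RingHom.comp_apply,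
      IsScalarTower.algebraMap_apply k R[T;T⁻¹] (R[T;T⁻¹])[T;T⁻¹], ← C_eq_algebraMap,
      IsScalarTower.algebraMap_apply k R R[T;T⁻¹], ← C_eq_algebraMap]

@[simp] theorem mu_C (r : R) : mu k R (C r) = C (C r) := eval₂_C _ _ r

@[simp] theorem mu_T : mu k R (T 1) = C (T 1) * T 1 := by
  show LaurentPolynomial.eval₂ _ _ (T 1) = _
  rw [eval₂_T, zpow_one]
  rfl

theorem mu_jay : (mu k R).comp (jay k R) = (Lmap (jay k R)).comp (mu' k R) := by
  refine AlgHom.coe_ringHom_injective (Polynomial.ringHom_ext (fun r => ?_) ?_)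
  · show mu k R (Polynomial.toLaurent (Polynomial.C r)) = Lmap (jay k R) (mu' k R (Polynomial.C r))
    rw [Polynomial.toLaurent_C, mu_C, mu'_C, Lmap_C]
    exact congrArg C (Polynomial.toLaurent_C r).symm
  · show mu k R (Polynomial.toLaurent Polynomial.X) = Lmap (jay k R) (mu' k R Polynomial.X)
    rw [Polynomial.toLaurent_X, mu_T, mu'_X, map_mul, Lmap_C, Lmap_T]
    exact congrArg (fun z => C z * T 1) (Polynomial.toLaurent_X).symm

theorem ev0_mu' : (Lmap (ev0 k R)).comp (mu' k R) = (cst k R).comp (ev0 k R) := by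
  refine AlgHom.coe_ringHom_injective (Polynomial.ringHom_ext (fun r => ?_) ?_)
  · show Lmap (ev0 k R) (mu' k R (Polynomial.C r)) = cst k R (ev0 k R (Polynomial.C r))
    simp [cst_apply, ev0_apply]
  · show Lmap (ev0 k R) (mu' k R Polynomial.X) = cst k R (ev0 k R Polynomial.X)
    simp [cst_apply, ev0_apply]

end Groth.Agent.DynLib
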