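import Groth.Prelude.Def_Dyn
import Groth.Agent.DynLib.Laurent
import Mathlib.RingTheory.HopfAlgebra.Quotient

/-!
The dynamic method: conjugated orbits as homomorphisms of groups of points.
-/

set_option autoImplicit false
set_option linter.style.haveILetI false
set_option backward.isDefEq.respectTransparency.types false

noncomputable section

open LaurentPolynomial TensorProduct WithConv

universe u

namespace Groth.Agent.DynLib

variable {k : Type u} [CommRing k] {A : Type u} [CommRing A] [HopfAlgebra k A]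
  {R R' : Type u} [CommRing R] [Algebra k R] [CommRing R'] [Algebra k R']

variable (k A R) in
/-- `R`-points of `Spec A`. -/
abbrev Pt : Type u := WithConv (A →ₐ[k] R)

/-- Push a point forward along an algebra map. -/
def push (φ : R →ₐ[k] R') : Pt k A R →* Pt k A R' where
  toFun g := toConv (φ.comp g.ofConv)
  map_one' := by
    refine WithConv.ext (AlgHom.ext fun a => ?_)
    rw [ofConv_toConv, AlgHom.comp_apply, AlgHom.convOne_apply, AlgHom.convOne_apply, AlgHom.commutes]
  map_mul' g h := congrArg toConv (AlgHom.comp_convMul_distrib φ g h)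

@[simp] theorem push_apply (φ : R →ₐ[k] R') (g : Pt k A R) (a : A) :
    (push φ g).ofConv a = φ (g.ofConv a) := rfl

theorem push_push {R'' : Type u} [CommRing R''] [Algebra k R''] (φ : R →ₐ[k] R') (ψ : R' →ₐ[k] R'')
    (g : Pt k A R) : push ψ (push φ g) = push (ψ.comp φ) g := rfl

theorem push_injective (φ : R →ₐ[k] R') (hφ : Function.Injective φ) :
    Function.Injective (push φ : Pt k A R → Pt k A R') :=
  fun _ _ e => WithConv.ext (AlgHom.ext fun a => hφ (congrArg (fun p : Pt k A R' => p.ofConv a) e))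

instance ptInv : Inv (Pt k A R) where
  inv g := toConv (g.ofConv.comp (HopfAlgebra.antipodeAlgHom k A))

instance ptGroup : Group (Pt k A R) where
  inv_mul_cancel g := by
    have h := congrArg (push g.ofConv) (AlgHom.antipode_id_cancel (R := k) (A := A))
    rw [map_mul, map_one] at h
    exact h

/-- Points of `G_m` give points of `G` through the cocharacter. -/
def pre (lam : A →ₐc[k] k[T;T⁻¹]) (u : k[T;T⁻¹] →ₐ[k] R) : Pt k A R :=
  toConv (u.comp (lam : A →ₐ[k] k[T;T⁻¹]))

theorem push_pre (lam : A →ₐc[k] k[T;T⁻¹]) (u : k[T;T⁻¹] →ₐ[k] R) (φ : R →ₐ[k] R') :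
    push φ (pre lam u) = pre lam (φ.comp u) := rfl

/-- A product of two points of `G_m` multiplies the values of `T`. -/
theorem pre_mul (lam : A →ₐc[k] k[T;T⁻¹]) (u v w : k[T;T⁻¹] →ₐ[k] R) (h : u (T 1) * v (T 1) = w (T 1)) :
    pre lam u * pre lam v = pre lam w := by
  have hw : (toConv u * toConv v).ofConv = w := Lext' (by
    rw [← h]
    show (toConv u * toConv v) (T 1) = _
    rw [AlgHom.convMul_apply, LaurentPolynomial.comul_T, Algebra.TensorProduct.lift_tmul])
  rw [← hw, pre, pre, pre]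
  exact congrArg toConv (AlgHom.convMul_comp_bialgHom_distrib (toConv u) (toConv v) lam).symm

/-- The value at `1` is the identity. -/
theorem pre_eq_one (lam : A →ₐc[k] k[T;T⁻¹]) (u : k[T;T⁻¹] →ₐ[k] R) (h : u (T 1) = 1) :
    pre lam u = 1 := by
  have hu : u = (Algebra.ofId k R).comp (Bialgebra.counitAlgHom k k[T;T⁻¹]) := Lext' (by
    rw [h, AlgHom.comp_apply, Bialgebra.counitAlgHom_apply, LaurentPolynomial.counit_T, map_one])
  rw [hu, pre, AlgHom.convOne_def, AlgHom.comp_assoc]
  refine congrArg toConv (AlgHom.ext fun a => ?_)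
  simp only [AlgHom.comp_apply, Bialgebra.counitAlgHom_apply, BialgHom.coe_toAlgHom,
    CoalgHomClass.counit_comp_apply]

variable (k R) in
/-- The tautological point of `G_m` with values in `R[T;T⁻¹]`. -/
def tee : k[T;T⁻¹] →ₐ[k] R[T;T⁻¹] := AddMonoidAlgebra.mapAlgHom ℤ (Algebra.ofId k R)

@[simp] theorem tee_T (n : ℤ) : tee k R (T n) = T n := by
  simp only [tee, T, AddMonoidAlgebra.mapAlgHom_single, map_one]

theorem Lmap_tee (φ : R →ₐ[k] R') : (Lmap φ).comp (tee k R) = tee k R' :=
  Lext' (by simp)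

variable (R) in
/-- Conjugation by the universal value of the cocharacter. -/
def conj (lam : A →ₐc[k] k[T;T⁻¹]) : Pt k A R →* Pt k A R[T;T⁻¹] :=
  (MulAut.conj (pre lam (tee k R))).toMonoidHom.comp (push (cst k R))

theorem conj_apply (lam : A →ₐc[k] k[T;T⁻¹]) (g : Pt k A R) :
    conj R lam g = pre lam (tee k R) * push (cst k R) g * (pre lam (tee k R))⁻¹ := rfl

theorem conv3_eq (f g h : A →ₐ[k] R) :
    Dyn.conv3 k A f g h = (toConv f * toConv g * toConv h).ofConv := by
  simp only [Dyn.conv3, AlgHom.convMul_def, ofConv_toConv]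
  refine AlgHom.ext fun a => ?_
  simp only [AlgHom.comp_apply]
  congr 1
  generalize Bialgebra.comulAlgHom k A a = t
  induction t using TensorProduct.induction_on with
  | zero => simp
  | add x y hx hy => simp only [map_add, hx, hy]
  | tmul x y => simp

theorem conjOrbit_eq (lam : A →ₐc[k] k[T;T⁻¹]) (g : A →ₐ[k] R) :
    Dyn.conjOrbit k A lam R g = (conj R lam (toConv g)).ofConv := by
  rw [Dyn.conjOrbit, conv3_eq]
  rfl

theorem push_conj (lam : A →ₐc[k] k[T;T⁻¹]) (φ : R →ₐ[k] R') (g : Pt k A R) :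
    push (Lmap φ) (conj R lam g) = conj R' lam (push φ g) := by
  rw [conj_apply, conj_apply, map_mul, map_mul, map_inv, push_pre, Lmap_tee, push_push, Lmap_cst, ← push_push]

theorem push_ev1_conj (lam : A →ₐc[k] k[T;T⁻¹]) (g : Pt k A R) : push (ev1 k R) (conj R lam g) = g := by
  rw [conj_apply, map_mul, map_mul, map_inv, push_pre, pre_eq_one lam _ (by simp), one_mul, inv_one, mul_one,
    push_push]
  exact WithConv.ext (AlgHom.ext fun a => by simp [cst_apply])

/-- The orbit of an orbit is the orbit of the product. -/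
theorem conj_conj (lam : A →ₐc[k] k[T;T⁻¹]) (g : Pt k A R) :
    conj R[T;T⁻¹] lam (conj R lam g) = push (mu k R) (conj R lam g) := by
  have h1 : pre lam (tee k R[T;T⁻¹]) * push (cst k R[T;T⁻¹]) (pre lam (tee k R)) =
      push (mu k R) (pre lam (tee k R)) := by
    rw [push_pre, push_pre]
    refine pre_mul lam _ _ _ ?_
    rw [AlgHom.comp_apply, AlgHom.comp_apply, tee_T, tee_T, cst_apply, mu_T, mul_comm]
  have h2 : push (cst k R[T;T⁻¹]) (push (cst k R) g) = push (mu k R) (push (cst k R) g) := by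
    rw [push_push, push_push]
    exact congrArg (fun φ => push φ g) (AlgHom.ext fun r => by simp [cst_apply])
  rw [conj_apply lam (conj R lam g), conj_apply, map_mul, map_mul, map_inv, map_mul, map_mul, map_inv,
    ← h1, h2, mul_inv_rev]
  simp only [mul_assoc]

variable (R) in
/-- Points whose limit exists. -/
def limSub (lam : A →ₐc[k] k[T;T⁻¹]) : Subgroup (Pt k A R) :=
  ((push (jay k R)).range).comap (conj R lam)

variable (R) in
/-- Points whose limit is the identity. -/
def oneSub (lam : A →ₐc[k] k[T;T⁻¹]) : Subgroup (Pt k A R) :=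
  ((push (A := A) (ev0 k R)).ker.map (push (jay k R))).comap (conj R lam)

theorem limExists_iff (lam : A →ₐc[k] k[T;T⁻¹]) (g : A →ₐ[k] R) :
    Dyn.LimExists k A lam R g ↔ toConv g ∈ limSub R lam := by
  unfold Dyn.LimExists
  rw [conjOrbit_eq]
  constructor
  · rintro ⟨h, hh⟩; exact ⟨toConv h, WithConv.ext hh⟩
  · rintro ⟨h, hh⟩; exact ⟨h.ofConv, congrArg WithConv.ofConv hh⟩

theorem limIsOne_iff (lam : A →ₐc[k] k[T;T⁻¹]) (g : A →ₐ[k] R) :
    Dyn.LimIsOne k A lam R g ↔ toConv g ∈ oneSub R lam := by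
  unfold Dyn.LimIsOne
  rw [conjOrbit_eq]
  constructor
  · rintro ⟨h, hh, h0⟩; exact ⟨toConv h, WithConv.ext h0, WithConv.ext hh⟩
  · rintro ⟨h, h0, hh⟩
    exact ⟨h.ofConv, congrArg WithConv.ofConv hh, congrArg WithConv.ofConv (show push (ev0 k R) h = 1 from h0)⟩

/-- The coefficient functions of the universal orbit. -/
def cf (lam : A →ₐc[k] k[T;T⁻¹]) (n : ℤ) (a : A) : A :=
  ((conj A lam (toConv (AlgHom.id k A))).ofConv a).coeff n

theorem coeff_conj (lam : A →ₐc[k] k[T;T⁻¹]) (g : Pt k A R) (a : A) (n : ℤ) :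
    ((conj R lam g).ofConv a).coeff n = g.ofConv (cf lam n a) := by
  conv_lhs => rw [show g = push g.ofConv (toConv (AlgHom.id k A)) from rfl, ← push_conj]
  rw [push_apply, Lmap_coeff]
  rfl

/-- The equations of the points whose limit exists. -/
def limIdeal (lam : A →ₐc[k] k[T;T⁻¹]) : Ideal A :=
  Ideal.span {x | ∃ a : A, ∃ n : ℤ, n < 0 ∧ cf lam n a = x}

/-- The equations of the points whose limit is the identity. -/
def oneIdeal (lam : A →ₐc[k] k[T;T⁻¹]) : Ideal A :=
  limIdeal lam ⊔ Ideal.span {x | ∃ a : A, cf lam 0 a - algebraMap k A (CoalgebraStruct.counit (R := k) a) = x}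

theorem kills_span_iff (g : A →ₐ[k] R) (s : Set A) :
    (∀ a ∈ Ideal.span s, g a = 0) ↔ ∀ a ∈ s, g a = 0 := by
  refine ⟨fun h a ha => h a (Ideal.subset_span ha), fun h a ha => ?_⟩
  exact (Ideal.span_le.mpr h : Ideal.span s ≤ RingHom.ker g) ha

theorem kills_limIdeal_iff (lam : A →ₐc[k] k[T;T⁻¹]) (g : A →ₐ[k] R) :
    (∀ a ∈ limIdeal lam, g a = 0) ↔ toConv g ∈ limSub R lam := by
  rw [limIdeal, kills_span_iff]
  constructor
  · intro h
    have hr : ∀ a, (conj R lam (toConv g)).ofConv a ∈ (jay k R).range := fun a => mem_range_jay fun n hn => by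
      rw [coeff_conj]; exact h _ ⟨a, n, hn, rfl⟩
    refine ⟨toConv ((AlgEquiv.ofInjective (jay k R) jay_injective).symm.toAlgHom.comp
      ((conj R lam (toConv g)).ofConv.codRestrict (jay k R).range hr)), WithConv.ext (AlgHom.ext fun a => ?_)⟩
    rw [push_apply]
    exact congrArg Subtype.val ((AlgEquiv.ofInjective (jay k R) jay_injective).apply_symm_apply ⟨_, hr a⟩)
  · rintro ⟨h, hh⟩ _ ⟨a, n, hn, rfl⟩
    have := coeff_conj lam (toConv g) a n
    rw [← hh, push_apply, jay_coeff_neg _ hn] at this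
    exact this.symm

theorem kills_oneIdeal_iff (lam : A →ₐc[k] k[T;T⁻¹]) (g : A →ₐ[k] R) :
    (∀ a ∈ oneIdeal lam, g a = 0) ↔ toConv g ∈ oneSub R lam := by
  have key : ∀ h : Pt k A (Polynomial R), push (jay k R) h = conj R lam (toConv g) →
      ∀ a, ev0 k R (h.ofConv a) = g (cf lam 0 a) := fun h hh a => by
    have := coeff_conj lam (toConv g) a 0
    rw [← hh, push_apply, jay_coeff_zero] at this
    rw [ev0_apply, this]
  constructor
  · intro hg
    obtain ⟨h, hh⟩ := (kills_limIdeal_iff lam g).mp fun a ha => hg a (Submodule.mem_sup_left ha)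
    refine ⟨h, WithConv.ext (AlgHom.ext fun a => ?_), hh⟩
    have := hg _ (Submodule.mem_sup_right (Ideal.subset_span ⟨a, rfl⟩))
    rw [map_sub, AlgHom.commutes, sub_eq_zero] at this
    rw [push_apply, key h hh, this, AlgHom.convOne_apply]
  · rintro ⟨h, h0, hh⟩ a ha
    obtain ⟨x, hx, y, hy, rfl⟩ := Submodule.mem_sup.mp ha
    rw [map_add, (kills_limIdeal_iff lam g).mpr ⟨h, hh⟩ x hx, zero_add]
    refine (kills_span_iff g _).mpr ?_ y hy
    rintro _ ⟨b, rfl⟩
    have e : (push (ev0 k R) h).ofConv b = (1 : Pt k A R).ofConv b :=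
      congrArg (fun p : Pt k A R => p.ofConv b) h0
    rw [map_sub, AlgHom.commutes, ← key h hh, ← push_apply, e, AlgHom.convOne_apply, sub_self]

/-- An ideal representing a subgroup functor is a Hopf ideal. -/
theorem isHopfIdeal_of_subgroup (J : Ideal A)
    (S : ∀ (R : Type u) [CommRing R] [Algebra k R], Subgroup (Pt k A R))
    (hJ : ∀ (R : Type u) [CommRing R] [Algebra k R] (g : A →ₐ[k] R), (∀ a ∈ J, g a = 0) ↔ toConv g ∈ S R) :
    J.IsHopfIdeal k := by
  let m : A →ₐ[k] A ⧸ J := Ideal.Quotient.mkₐ k J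
  have hm : ∀ {R : Type u} [CommRing R] [Algebra k R] (φ : (A ⧸ J) →ₐ[k] R), toConv (φ.comp m) ∈ S R :=
    fun φ => (hJ _ _).mp fun a ha => by
      rw [AlgHom.comp_apply, show m a = 0 from (Ideal.Quotient.eq_zero_iff_mem).2 ha, map_zero]
  let Q : A ⊗[k] A →ₐ[k] (A ⧸ J) ⊗[k] (A ⧸ J) := Algebra.TensorProduct.map m m
  let e := Submodule.Quotient.restrictScalarsEquiv k J
  have hQ : ∀ t, TensorProduct.map (J.restrictScalars k).mkQ (J.restrictScalars k).mkQ t =
      TensorProduct.map e.symm.toLinearMap e.symm.toLinearMap (Q t) := by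
    intro t
    induction t using TensorProduct.induction_on with
    | zero => simp
    | add p q hp hq => simp only [map_add, hp, hq]
    | tmul a b => rfl
  refine { counit_eq_zero := fun x hx => ?_, map_mkQ_comul_eq_zero := fun x hx => ?_, antipode_mem := fun x hx => ?_ }
  · exact ((hJ k ((Algebra.ofId k k).comp (Bialgebra.counitAlgHom k A))).mpr
      (show (1 : Pt k A k) ∈ S k from one_mem _) x hx)
  · have h : (toConv ((Algebra.TensorProduct.includeLeft : (A ⧸ J) →ₐ[k] (A ⧸ J) ⊗[k] (A ⧸ J)).comp m) *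
        toConv ((Algebra.TensorProduct.includeRight : (A ⧸ J) →ₐ[k] (A ⧸ J) ⊗[k] (A ⧸ J)).comp m)).ofConv x = 0 :=
      (hJ _ _).mpr (show _ ∈ S _ from mul_mem (hm _) (hm _)) x hx
    rw [hQ, show Q (CoalgebraStruct.comul (R := k) x) = 0 from ?_, map_zero]
    refine Eq.trans ?_ h
    rw [AlgHom.convMul_apply]
    generalize CoalgebraStruct.comul (R := k) x = t
    induction t using TensorProduct.induction_on with
    | zero => simp
    | add p q hp hq => simp only [map_add, hp, hq]
    | tmul a b => simp [Q, m]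
  · have hmm : toConv ((AlgHom.id k (A ⧸ J)).comp m) ∈ S _ := hm _
    have h : (toConv ((AlgHom.id k (A ⧸ J)).comp m))⁻¹.ofConv x = 0 :=
      (hJ _ _).mpr (show _ ∈ S _ from inv_mem hmm) x hx
    exact (Ideal.Quotient.eq_zero_iff_mem).1 h

theorem isHopfIdeal_limIdeal (lam : A →ₐc[k] k[T;T⁻¹]) : (limIdeal lam).IsHopfIdeal k :=
  isHopfIdeal_of_subgroup _ (fun R _ _ => limSub R lam) fun _ _ _ => kills_limIdeal_iff lam

theorem isHopfIdeal_oneIdeal (lam : A →ₐc[k] k[T;T⁻¹]) : (oneIdeal lam).IsHopfIdeal k :=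
  isHopfIdeal_of_subgroup _ (fun R _ _ => oneSub R lam) fun _ _ _ => kills_oneIdeal_iff lam

/-- The limit of an orbit commutes with the cocharacter. -/
theorem conj_limit (lam : A →ₐc[k] k[T;T⁻¹]) (g : Pt k A R) (h : Pt k A (Polynomial R))
    (hh : push (jay k R) h = conj R lam g) :
    conj R lam (push (ev0 k R) h) = push (cst k R) (push (ev0 k R) h) := by
  have hμ : conj (Polynomial R) lam h = push (mu' k R) h := by
    refine push_injective (Lmap (jay k R)) (Lmap_injective _ jay_injective) ?_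
    rw [push_conj, hh, conj_conj, ← hh, push_push, mu_jay, push_push]
  rw [← push_conj, hμ, push_push, ev0_mu', push_push]

end Groth.Agent.DynLib
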