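import Groth.Agent.DynLib.Field
import Groth.Agent.SGA3cLib.Irreducible
import Groth.Agent.CAlgH3.Components
import Groth.Prelude.Def_CoactBr

/-!
The contracted and limit subgroups of a connected group have no idempotents.
-/

set_option autoImplicit false
set_option linter.style.haveILetI false
set_option backward.isDefEq.respectTransparency.types false

noncomputable section

open LaurentPolynomial TensorProduct WithConv AlgebraicGeometry

universe u

namespace Groth.Agent.DynLib

/-- Inversion of the multiplicative group. -/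
def invertHom (k : Type u) [CommRing k] : k[T;T⁻¹] →ₐc[k] k[T;T⁻¹] :=
  BialgHom.ofAlgHom (LaurentPolynomial.invert (R := k)).toAlgHom
    (Lext' (by simp [LaurentPolynomial.counit_T]))
    (Lext' (by simp [LaurentPolynomial.comul_T]))

theorem invertHom_comp_eq {k : Type u} [CommRing k] {A : Type u} [CommRing A] [HopfAlgebra k A]
    (lam : A →ₐc[k] k[T;T⁻¹]) :
    (((invertHom k).comp lam : A →ₐc[k] k[T;T⁻¹]) : A →ₐ[k] k[T;T⁻¹]) = Dyn.negParam k A lam :=
  AlgHom.ext fun _ => rfl

theorem irreducibleSpace_spec {k A : Type u} [Field k] [CommRing A] [HopfAlgebra k A] [Algebra.FiniteType k A]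
    (hA : ∀ e : A, IsIdempotentElem e → e = 0 ∨ e = 1) : IrreducibleSpace (PrimeSpectrum A) := by
  haveI : Nontrivial A := (Bialgebra.counitAlgHom k A).toRingHom.domain_nontrivial
  haveI := Groth.Agent.CAlgH3.preconnectedSpace_of_idempotents hA
  haveI : ConnectedSpace (PrimeSpectrum A) := { toNonempty := inferInstance }
  haveI : ConnectedSpace (CoactBr.sp k A).left := ‹ConnectedSpace (PrimeSpectrum A)›
  haveI : LocallyOfFiniteType (CoactBr.sp k A).hom := (HasRingHomProperty.Spec_iff (P := @LocallyOfFiniteType)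
    (φ := CommRingCat.ofHom (algebraMap k A))).2 (RingHom.finiteType_algebraMap.2 inferInstance)
  exact Groth.Agent.SGA3cLib.irreducibleSpace_of_connected (CoactBr.sp k A)

theorem idem_limExists {k A : Type u} [Field k] [CommRing A] [HopfAlgebra k A] [Algebra.FiniteType k A]
    (lam : A →ₐc[k] k[T;T⁻¹]) {Jp : Ideal A}
    (hp : Dyn.Represents k A Jp (fun R _ _ g => Dyn.LimExists k A lam R g))
    (hA : ∀ e : A, IsIdempotentElem e → e = 0 ∨ e = 1) :
    ∀ e : A ⧸ Jp, IsIdempotentElem e → e = 0 ∨ e = 1 := by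
  intro e he
  haveI := irreducibleSpace_spec (k := k) hA
  let lamNeg := (invertHom k).comp lam
  let Jm := oneIdeal lamNeg
  have hopen := isOpenImmersion_cell_field (k := k) (A := A) (lam := lam) (lamNeg := lamNeg) (invertHom_comp_eq lam)
    (Jm := Jm) (Jp := Jp) hp fun R _ _ g => (kills_oneIdeal_iff lamNeg g).trans (limIsOne_iff lamNeg g).symm
  set f := Spec.map (CommRingCat.ofHom (cellHom k Jm Jp).toRingHom)
  let e' : (A ⧸ Jm) ⊗[k] (A ⧸ Jp) := (1 : A ⧸ Jm) ⊗ₜ[k] e
  have he' : IsIdempotentElem e' := by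
    show e' * e' = e'
    rw [Algebra.TensorProduct.tmul_mul_tmul, mul_one, he.eq]
  have hor : e' = 0 ∨ 1 - e' = 0 := by
    by_contra hc
    rw [not_or] at hc
    have hne : ∀ x : (A ⧸ Jm) ⊗[k] (A ⧸ Jp), IsIdempotentElem x → x ≠ 0 →
        (f.base '' (PrimeSpectrum.basicOpen x : Set (PrimeSpectrum ((A ⧸ Jm) ⊗[k] (A ⧸ Jp))))).Nonempty :=
      fun x hx hx0 => by
        refine Set.Nonempty.image _ ?_
        by_contra hem
        rw [Set.not_nonempty_iff_eq_empty] at hem
        have : PrimeSpectrum.basicOpen x = ⊥ := TopologicalSpace.Opens.ext hem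
        obtain ⟨n, hn⟩ := (PrimeSpectrum.basicOpen_eq_bot_iff x).1 this
        cases n with
        | zero => exact hx0 (by rw [← mul_one x, ← pow_zero x, hn, mul_zero])
        | succ n => exact hx0 ((hx.pow_succ_eq n).symm.trans hn)
    haveI : PreirreducibleSpace ↥(Spec (CommRingCat.of A)) := ‹IrreducibleSpace (PrimeSpectrum A)›.toPreirreducibleSpace
    obtain ⟨z, ⟨p, hp1, rfl⟩, ⟨q, hq1, hq⟩⟩ := nonempty_preirreducible_inter
      (f.isOpenEmbedding.isOpenMap _ (PrimeSpectrum.basicOpen e').isOpen)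
      (f.isOpenEmbedding.isOpenMap _ (PrimeSpectrum.basicOpen (1 - e')).isOpen)
      (hne _ he' hc.1) (hne _ he'.one_sub hc.2)
    rw [f.isOpenEmbedding.injective hq] at hq1
    rcases p.isPrime.mem_or_mem (show e' * (1 - e') ∈ p.asIdeal by
      rw [mul_sub, mul_one, he'.eq, sub_self]; exact zero_mem _) with h | h
    · exact hp1 h
    · exact hq1 h
  have hJm : ∀ a ∈ Jm, Bialgebra.counitAlgHom k A a = 0 :=
    (kills_oneIdeal_iff lamNeg (Bialgebra.counitAlgHom k A)).2
      (show (1 : Pt k A k) ∈ oneSub k lamNeg from one_mem _)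
  let φ : (A ⧸ Jm) ⊗[k] (A ⧸ Jp) →ₐ[k] A ⧸ Jp := Algebra.TensorProduct.lift
    ((Algebra.ofId k (A ⧸ Jp)).comp (Ideal.Quotient.liftₐ Jm (Bialgebra.counitAlgHom k A) hJm))
    (AlgHom.id k (A ⧸ Jp)) fun _ _ => Commute.all _ _
  have hφ : φ e' = e := by simp [φ, e']
  rcases hor with h | h
  · left; rw [← hφ, h, map_zero]
  · right; rw [← hφ, ← (sub_eq_zero.1 h), map_one]

theorem idem_limIsOne {k A : Type u} [Field k] [CommRing A] [HopfAlgebra k A]
    (lam : A →ₐc[k] k[T;T⁻¹]) {Ju : Ideal A} [Ju.IsHopfIdeal k]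
    (hu : Dyn.Represents k A Ju (fun R _ _ g => Dyn.LimIsOne k A lam R g)) :
    ∀ e : A ⧸ Ju, IsIdempotentElem e → e = 0 ∨ e = 1 := by
  intro e he
  obtain ⟨h, hh⟩ := exists_grading lam Ju hu
  obtain ⟨c, hc, hce⟩ := hh.idempotent he
  have : IsIdempotentElem c := hce ▸ (he.map (Bialgebra.counitAlgHom k (A ⧸ Ju)))
  rcases IsIdempotentElem.iff_eq_zero_or_one.1 this with h0 | h1
  · left; rw [hc, h0, map_zero]
  · right; rw [hc, h1, map_one]

end Groth.Agent.DynLib
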