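import Groth.Agent.DynLib.Basic
import Groth.Agent.HopfLib.Slices
import Groth.Prelude.Def_HopfRep
import Mathlib.Algebra.Polynomial.Div

/-!
The grading of the coordinate ring of the contracted subgroup, and its consequences.
-/

set_option autoImplicit false
set_option linter.style.haveILetI false
set_option backward.isDefEq.respectTransparency.types false

noncomputable section

open LaurentPolynomial TensorProduct WithConv HopfRep

universe u

namespace Groth.Agent.DynLib

section Ring

variable {k : Type u} [CommRing k] {R R' : Type u} [CommRing R] [Algebra k R] [CommRing R'] [Algebra k R']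

/-- Functoriality of polynomial rings. -/
def Pmap (φ : R →ₐ[k] R') : Polynomial R →ₐ[k] Polynomial R' where
  __ := Polynomial.mapRingHom φ.toRingHom
  commutes' c := by
    show Polynomial.map _ (algebraMap k (Polynomial R) c) = _
    rw [IsScalarTower.algebraMap_apply k R (Polynomial R), Polynomial.algebraMap_eq, Polynomial.map_C,
      IsScalarTower.algebraMap_apply k R' (Polynomial R'), Polynomial.algebraMap_eq]
    exact congrArg Polynomial.C (φ.commutes c)

theorem Pmap_coeff (φ : R →ₐ[k] R') (p : Polynomial R) (n : ℕ) : (Pmap φ p).coeff n = φ (p.coeff n) :=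
  Polynomial.coeff_map _ _

theorem Lmap_jay (φ : R →ₐ[k] R') : (Lmap φ).comp (jay k R) = (jay k R').comp (Pmap φ) := by
  refine AlgHom.coe_ringHom_injective (Polynomial.ringHom_ext (fun r => ?_) ?_)
  · show Lmap φ (Polynomial.toLaurent (Polynomial.C r)) =
      Polynomial.toLaurent (Polynomial.map φ.toRingHom (Polynomial.C r))
    rw [Polynomial.map_C, Polynomial.toLaurent_C, Polynomial.toLaurent_C, Lmap_C]
    rfl
  · show Lmap φ (Polynomial.toLaurent Polynomial.X) =
      Polynomial.toLaurent (Polynomial.map φ.toRingHom Polynomial.X)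
    rw [Polynomial.map_X, Polynomial.toLaurent_X, Polynomial.toLaurent_X, Lmap_T]

variable (k R) in
/-- The scaling `X ↦ X S` with polynomial values. -/
def nu : Polynomial R →ₐ[k] Polynomial (Polynomial R) where
  __ := Polynomial.eval₂RingHom ((Polynomial.C : Polynomial R →+* _).comp Polynomial.C)
    (Polynomial.C Polynomial.X * Polynomial.X)
  commutes' c := by
    show Polynomial.eval₂ _ _ (algebraMap k (Polynomial R) c) = _
    rw [IsScalarTower.algebraMap_apply k R (Polynomial R), Polynomial.algebraMap_eq, Polynomial.eval₂_C,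
      RingHom.comp_apply, IsScalarTower.algebraMap_apply k (Polynomial R) (Polynomial (Polynomial R)),
      Polynomial.algebraMap_eq, IsScalarTower.algebraMap_apply k R (Polynomial R), Polynomial.algebraMap_eq]

theorem jay_nu : (jay k (Polynomial R)).comp (nu k R) = mu' k R := by
  refine AlgHom.coe_ringHom_injective (Polynomial.ringHom_ext (fun r => ?_) ?_)
  · show Polynomial.toLaurent (Polynomial.eval₂ _ _ (Polynomial.C r)) = mu' k R (Polynomial.C r)
    rw [Polynomial.eval₂_C, mu'_C]
    exact Polynomial.toLaurent_C _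
  · show Polynomial.toLaurent (Polynomial.eval₂ _ _ Polynomial.X) = mu' k R Polynomial.X
    rw [Polynomial.eval₂_X, mu'_X, map_mul, Polynomial.toLaurent_C, Polynomial.toLaurent_X]

theorem nu_coeff (p : Polynomial R) (n : ℕ) : (nu k R p).coeff n = Polynomial.monomial n (p.coeff n) := by
  induction p using Polynomial.induction_on' with
  | add p q hp hq => simp [hp, hq]
  | monomial m a =>
    have : nu k R (Polynomial.monomial m a) = Polynomial.monomial m (Polynomial.monomial m a) := by
      show Polynomial.eval₂ _ _ _ = _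
      rw [Polynomial.eval₂_monomial, RingHom.comp_apply, mul_pow, ← mul_assoc, ← map_pow, ← map_mul,
        Polynomial.C_mul_X_pow_eq_monomial, Polynomial.C_mul_X_pow_eq_monomial]
    rw [this, Polynomial.coeff_monomial, Polynomial.coeff_monomial]
    split_ifs with h
    · rw [h]
    · simp

theorem ev1_jay (p : Polynomial R) : ev1 k R (jay k R p) = p.eval 1 := by
  show LaurentPolynomial.eval₂ (RingHom.id R) 1 (Polynomial.toLaurent p) = _
  rw [eval₂_toLaurent]
  rfl

theorem isIdempotentElem_eq_C {p : Polynomial R} (hp : IsIdempotentElem p) :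
    p = Polynomial.C (p.coeff 0) := by
  have h0 : Polynomial.C (p.coeff 0) * Polynomial.C (p.coeff 0) = Polynomial.C (p.coeff 0) := by
    rw [← map_mul, ← Polynomial.mul_coeff_zero, hp.eq]
  set d := p - Polynomial.C (p.coeff 0) with hd
  have h3 : d = d * d * d := by
    have := hp.eq
    grind
  have hpow : ∀ n, Polynomial.X ^ (3 ^ n) ∣ d := by
    intro n
    induction n with
    | zero => rw [pow_zero, pow_one, Polynomial.X_dvd_iff]; simp [hd]
    | succ n ih =>
      rw [h3, pow_succ (3 : ℕ) n, pow_mul, pow_succ, pow_two]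
      exact mul_dvd_mul (mul_dvd_mul ih ih) ih
  have : d = 0 := Polynomial.ext fun m => by
    rw [Polynomial.coeff_zero]
    exact Polynomial.X_pow_dvd_iff.mp (hpow m) m (Nat.lt_pow_self (by norm_num))
  rwa [hd, sub_eq_zero] at this

variable {A : Type u} [CommRing A] [HopfAlgebra k A]

/-- The contraction of the coordinate ring of the subgroup of points with limit one. -/
structure IsGrading (J : Ideal A) [J.IsHopfIdeal k] (h : (A ⧸ J) →ₐ[k] Polynomial (A ⧸ J)) : Prop where
  eval_one : ∀ b, (h b).eval 1 = b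
  coeff_zero : ∀ b, (h b).coeff 0 = algebraMap k (A ⧸ J) (CoalgebraStruct.counit (R := k) b)
  idem : ∀ (b : A ⧸ J) (q : ℕ), h ((h b).coeff q) = Polynomial.monomial q ((h b).coeff q)
  comul : ∀ (b : A ⧸ J) (m : ℕ), CoalgebraStruct.comul (R := k) ((h b).coeff m) =
    ∑ x ∈ Finset.antidiagonal m, TensorProduct.map
      (((Polynomial.lcoeff (A ⧸ J) x.1).restrictScalars k) ∘ₗ h.toLinearMap)
      (((Polynomial.lcoeff (A ⧸ J) x.2).restrictScalars k) ∘ₗ h.toLinearMap) (CoalgebraStruct.comul (R := k) b)

theorem exists_grading (lam : A →ₐc[k] k[T;T⁻¹]) (J : Ideal A) [J.IsHopfIdeal k]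
    (hJ : Dyn.Represents k A J (fun R _ _ g => Dyn.LimIsOne k A lam R g)) :
    ∃ h : (A ⧸ J) →ₐ[k] Polynomial (A ⧸ J), IsGrading J h := by
  let m : A →ₐ[k] A ⧸ J := Ideal.Quotient.mkₐ k J
  let p : Pt k A (A ⧸ J) := toConv m
  obtain ⟨H, hH0, hH⟩ := (limIsOne_iff lam m).mp ((hJ _ m).mp fun a ha => (Ideal.Quotient.eq_zero_iff_mem).2 ha)
  replace hH0 : push (ev0 k (A ⧸ J)) H = 1 := hH0
  have hμ : conj (Polynomial (A ⧸ J)) lam H = push (mu' k (A ⧸ J)) H := by
    refine push_injective (Lmap (jay k (A ⧸ J))) (Lmap_injective _ jay_injective) ?_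
    rw [push_conj, hH, conj_conj, ← hH, push_push, mu_jay, push_push]
  have hkill : ∀ a ∈ J, H.ofConv a = 0 := by
    refine (hJ _ _).mpr ((limIsOne_iff lam _).mpr ⟨push (nu k (A ⧸ J)) H, ?_, ?_⟩)
    · show push (ev0 k (Polynomial (A ⧸ J))) (push (nu k (A ⧸ J)) H) = 1
      have e : (ev0 k (Polynomial (A ⧸ J))).comp (nu k (A ⧸ J)) =
          (IsScalarTower.toAlgHom k (A ⧸ J) (Polynomial (A ⧸ J))).comp (ev0 k (A ⧸ J)) :=
        AlgHom.ext fun q => by
          simp [ev0_apply, nu_coeff, Polynomial.algebraMap_eq]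
      rw [push_push, e, ← push_push, hH0, map_one]
    · rw [push_push, jay_nu, ← hμ]
  let h : (A ⧸ J) →ₐ[k] Polynomial (A ⧸ J) := Ideal.Quotient.liftₐ J H.ofConv hkill
  have hp : push h p = H := WithConv.ext (AlgHom.ext fun a => rfl)
  have surj : ∀ b : A ⧸ J, ∃ a, m a = b := Ideal.Quotient.mk_surjective
  refine ⟨h, ⟨fun b => ?_, fun b => ?_, fun b q => ?_, fun b n => ?_⟩⟩
  · obtain ⟨a, rfl⟩ := surj b
    show (H.ofConv a).eval 1 = m a
    rw [← ev1_jay (k := k)]
    have := congrArg (fun g : Pt k A (A ⧸ J) => g.ofConv a) (push_ev1_conj lam p)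
    rw [← hH, push_push] at this
    exact this
  · obtain ⟨a, rfl⟩ := surj b
    show (H.ofConv a).coeff 0 = _
    rw [← ev0_apply (k := k), ← push_apply, hH0, AlgHom.convOne_apply]
    rfl
  · obtain ⟨a, rfl⟩ := surj b
    have e : push (Pmap h) H = push (nu k (A ⧸ J)) H := by
      refine push_injective (jay k (Polynomial (A ⧸ J))) jay_injective ?_
      rw [push_push, ← Lmap_jay, ← push_push, hH, push_conj,
        show push h (toConv m) = H from hp, hμ, push_push, jay_nu]
    have := congrArg (fun g : Pt k A (Polynomial (Polynomial (A ⧸ J))) => (g.ofConv a).coeff q) e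
    simp only [push_apply, Pmap_coeff, nu_coeff] at this
    exact this
  · obtain ⟨a, rfl⟩ := surj b
    let dlt : (A ⧸ J) →ₐ[k] (A ⧸ J) ⊗[k] (A ⧸ J) := Bialgebra.comulAlgHom k (A ⧸ J)
    let il : (A ⧸ J) →ₐ[k] (A ⧸ J) ⊗[k] (A ⧸ J) := Algebra.TensorProduct.includeLeft
    let ir : (A ⧸ J) →ₐ[k] (A ⧸ J) ⊗[k] (A ⧸ J) := Algebra.TensorProduct.includeRight
    have hd : push dlt p = push il p * push ir p := by
      refine WithConv.ext (AlgHom.ext fun x => ?_)
      rw [AlgHom.convMul_apply, push_apply]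
      show CoalgebraStruct.comul (R := k) (m x) = _
      rw [show CoalgebraStruct.comul (R := k) (m x) =
        Algebra.TensorProduct.map m m (CoalgebraStruct.comul (R := k) x) from rfl]
      generalize CoalgebraStruct.comul (R := k) x = t
      induction t using TensorProduct.induction_on with
      | zero => simp
      | add p q hp hq => simp only [map_add, hp, hq]
      | tmul a b => simp [il, ir, p, push]
    have e : push (Pmap dlt) H = push (Pmap il) H * push (Pmap ir) H := by
      refine push_injective (jay k ((A ⧸ J) ⊗[k] (A ⧸ J))) jay_injective ?_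
      rw [map_mul]
      simp only [push_push, ← Lmap_jay]
      simp only [← push_push, hH]
      rw [push_conj, push_conj, push_conj, show push dlt (toConv m) = _ from hd, map_mul]
    have := congrArg (fun g : Pt k A (Polynomial ((A ⧸ J) ⊗[k] (A ⧸ J))) => (g.ofConv a).coeff n) e
    simp only [push_apply, Pmap_coeff, AlgHom.convMul_apply] at this
    refine this.trans ?_
    rw [show CoalgebraStruct.comul (R := k) (m a) =
        Algebra.TensorProduct.map m m (CoalgebraStruct.comul (R := k) a) from rfl]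
    generalize CoalgebraStruct.comul (R := k) a = t
    induction t using TensorProduct.induction_on with
    | zero => simp
    | add x y hx hy => simp only [map_add, Polynomial.coeff_add, Finset.sum_add_distrib, hx, hy]
    | tmul x y =>
      rw [Algebra.TensorProduct.lift_tmul, Polynomial.coeff_mul]
      refine Finset.sum_congr rfl fun z _ => ?_
      simp [push, il, ir, Pmap_coeff, h, m, Polynomial.lcoeff]

/-- The homogeneous components of the grading. -/
abbrev comp (J : Ideal A) (h : (A ⧸ J) →ₐ[k] Polynomial (A ⧸ J)) (q : ℕ) : (A ⧸ J) →ₗ[k] A ⧸ J :=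
  ((Polynomial.lcoeff (A ⧸ J) q).restrictScalars k) ∘ₗ h.toLinearMap

theorem comp_apply' (J : Ideal A) (h : (A ⧸ J) →ₐ[k] Polynomial (A ⧸ J)) (q : ℕ) (b : A ⧸ J) :
    comp J h q b = (h b).coeff q := rfl

theorem IsGrading.comp_comp {J : Ideal A} [J.IsHopfIdeal k] {h : (A ⧸ J) →ₐ[k] Polynomial (A ⧸ J)}
    (G : IsGrading J h) (p q : ℕ) (b : A ⧸ J) :
    comp J h p (comp J h q b) = if q = p then comp J h q b else 0 := by
  rw [comp_apply', comp_apply', G.idem, Polynomial.coeff_monomial]

theorem IsGrading.sum_comp {J : Ideal A} [J.IsHopfIdeal k] {h : (A ⧸ J) →ₐ[k] Polynomial (A ⧸ J)}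
    (G : IsGrading J h) {n : ℕ} {b : A ⧸ J} (hb : ∀ m, n < m → comp J h m b = 0) :
    b = ∑ q ∈ Finset.range (n + 1), comp J h q b := by
  have hdeg : (h b).natDegree < n + 1 := by
    by_contra hc
    exact Polynomial.leadingCoeff_ne_zero.mpr (fun h0 : h b = 0 => by rw [h0] at hc; simp at hc) (hb _ (by omega))
  conv_lhs => rw [← G.eval_one b, Polynomial.eval_eq_sum_range' hdeg]
  simp [comp_apply']

/-- Slices at top degree give invariant vectors. -/
theorem IsGrading.top_invariant {J : Ideal A} [J.IsHopfIdeal k] {h : (A ⧸ J) →ₐ[k] Polynomial (A ⧸ J)}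
    (G : IsGrading J h) {n : ℕ} {b : A ⧸ J} (hb : ∀ m, n < m → comp J h m b = 0) :
    LinearMap.lTensor (A ⧸ J) (comp J h n) (CoalgebraStruct.comul (R := k) b) =
      (1 : A ⧸ J) ⊗ₜ[k] comp J h n b := by
  have hgen : ∀ (q : ℕ) (c : A ⧸ J), LinearMap.lTensor (A ⧸ J) (comp J h n)
      (CoalgebraStruct.comul (R := k) (comp J h q c)) =
      ∑ x ∈ Finset.antidiagonal q, if x.2 = n then
        TensorProduct.map (comp J h x.1) (comp J h n) (CoalgebraStruct.comul (R := k) c) else 0 := by
    intro q c
    rw [comp_apply', G.comul, map_sum]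
    refine Finset.sum_congr rfl fun x _ => ?_
    generalize CoalgebraStruct.comul (R := k) c = t
    induction t using TensorProduct.induction_on with
    | zero => simp
    | add p q hp hq =>
      simp only [map_add]
      rw [hp, hq]
      split_ifs <;> simp
    | tmul p r =>
      simp only [TensorProduct.map_tmul, LinearMap.lTensor_tmul]
      rw [show ((Polynomial.lcoeff (A ⧸ J) x.2).restrictScalars k ∘ₗ h.toLinearMap) r = comp J h x.2 r from rfl,
        G.comp_comp]
      split_ifs with hx
      · rw [hx]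
      · rw [tmul_zero]
  conv_lhs => rw [G.sum_comp hb, map_sum, map_sum]
  rw [Finset.sum_eq_single n ?_ (fun h => absurd (Finset.mem_range.mpr (Nat.lt_succ_self n)) h)]
  · rw [hgen, Finset.sum_eq_single (0, n) ?_ (fun h => absurd (Finset.mem_antidiagonal.mpr (zero_add n)) h)]
    · rw [if_pos rfl]
      have h0 : comp J h 0 = (Algebra.linearMap k (A ⧸ J)) ∘ₗ CoalgebraStruct.counit :=
        LinearMap.ext fun c => G.coeff_zero c
      rw [show comp J h n = comp J h n ∘ₗ LinearMap.id from (LinearMap.comp_id _).symm, h0, TensorProduct.map_comp,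
        LinearMap.comp_apply]
      rw [show TensorProduct.map (CoalgebraStruct.counit (R := k)) LinearMap.id
          (CoalgebraStruct.comul (R := k) b) = (1 : k) ⊗ₜ[k] b from Coalgebra.rTensor_counit_comul b]
      simp
    · rintro ⟨p, r⟩ hpr hne
      rw [if_neg]
      rintro rfl
      rw [Finset.mem_antidiagonal] at hpr
      exact hne (by simp at hpr ⊢; omega)
  · intro q hq hne
    rw [hgen]
    refine Finset.sum_eq_zero fun x hx => if_neg fun hxn => ?_
    rw [Finset.mem_antidiagonal] at hx
    rw [Finset.mem_range] at hq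
    omega

theorem IsGrading.idempotent {J : Ideal A} [J.IsHopfIdeal k] {h : (A ⧸ J) →ₐ[k] Polynomial (A ⧸ J)}
    (G : IsGrading J h) {e : A ⧸ J} (he : IsIdempotentElem e) :
    ∃ c : k, e = algebraMap k (A ⧸ J) c ∧ c = CoalgebraStruct.counit (R := k) e := by
  refine ⟨_, ?_, rfl⟩
  have hp : IsIdempotentElem (h e) := he.map h
  obtain ⟨c, hc⟩ : ∃ c, h e = Polynomial.C c := ⟨(h e).coeff 0, isIdempotentElem_eq_C hp⟩
  rw [← G.coeff_zero e, hc, Polynomial.coeff_C_zero]
  conv_lhs => rw [← G.eval_one e, hc, Polynomial.eval_C]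

end Ring

section Field

variable {k : Type u} [Field k] {A : Type u} [CommRing A] [HopfAlgebra k A]

theorem isUnipotent_of_grading {J : Ideal A} [J.IsHopfIdeal k] {h : (A ⧸ J) →ₐ[k] Polynomial (A ⧸ J)}
    (G : IsGrading J h) : HopfRep.IsUnipotent k (A ⧸ J) := by
  intro V _ _ _ hfin hnt
  open Groth.Agent.HopfLib in
  set ρ : V →ₗ[k] V ⊗[k] (A ⧸ J) := Comod.coact with hρ
  have hbound : ∀ t : V ⊗[k] (A ⧸ J), ∃ N, ∀ m ≥ N, LinearMap.lTensor V (comp J h m) t = 0 := by
    intro t
    induction t using TensorProduct.induction_on with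
    | zero => exact ⟨0, fun _ _ => map_zero _⟩
    | tmul v b => exact ⟨(h b).natDegree + 1, fun m hm => by
        rw [LinearMap.lTensor_tmul, comp_apply', Polynomial.coeff_eq_zero_of_natDegree_lt (by omega), tmul_zero]⟩
    | add x y hx hy =>
      obtain ⟨N, hN⟩ := hx
      obtain ⟨M, hM⟩ := hy
      exact ⟨max N M, fun m hm => by
        rw [map_add, hN m (le_trans (le_max_left _ _) hm), hM m (le_trans (le_max_right _ _) hm), add_zero]⟩
  obtain ⟨N, hN⟩ : ∃ N, ∀ v, ∀ m ≥ N, LinearMap.lTensor V (comp J h m) (ρ v) = 0 := by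
    let bV := Module.finBasis k V
    choose M hM using fun i => hbound (ρ (bV i))
    refine ⟨Finset.univ.sup M, fun v m hm => ?_⟩
    have : LinearMap.lTensor V (comp J h m) ∘ₗ ρ = 0 :=
      bV.ext fun i => hM i m ((Finset.le_sup (Finset.mem_univ i)).trans hm)
    exact LinearMap.congr_fun this v
  classical
  by_cases hS : ∃ m, 0 < m ∧ ∃ v, LinearMap.lTensor V (comp J h m) (ρ v) ≠ 0
  swap
  · push Not at hS
    obtain ⟨v, hv⟩ := exists_ne (0 : V)
    refine (Submodule.ne_bot_iff _).mpr ⟨v, ?_, hv⟩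
    show ρ v = v ⊗ₜ[k] (1 : A ⧸ J)
    have hc : ρ v = LinearMap.lTensor V ((Algebra.linearMap k (A ⧸ J)) ∘ₗ CoalgebraStruct.counit) (ρ v) := by
      refine Groth.Agent.HopfLib.eq_of_forall_sliceL_eq fun f => ?_
      rw [Groth.Agent.HopfLib.sliceL_lTensor]
      have hb : ∀ m, 0 < m → comp J h m (Groth.Agent.HopfLib.sliceL f (ρ v)) = 0 := fun m hm => by
        rw [← Groth.Agent.HopfLib.sliceL_lTensor, hS m hm v, map_zero]
      conv_lhs => rw [G.sum_comp hb]
      rw [Finset.sum_range_one, comp_apply', G.coeff_zero]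
      rfl
    rw [hc, LinearMap.lTensor_comp, LinearMap.comp_apply,
      show LinearMap.lTensor V (CoalgebraStruct.counit (R := k)) (ρ v) = v ⊗ₜ[k] (1 : k) from
        LinearMap.congr_fun (Comod.counit_comp (k := k) (A := A ⧸ J) (V := V)) v,
      LinearMap.lTensor_tmul, Algebra.linearMap_apply, map_one]
  · let P : ℕ → Prop := fun m => 0 < m ∧ ∃ v, LinearMap.lTensor V (comp J h m) (ρ v) ≠ 0
    set n := Nat.findGreatest P N with hn
    obtain ⟨m₀, hm₀⟩ := hS
    have hm₀N : m₀ ≤ N := le_of_not_gt fun hgt => hm₀.2.choose_spec (hN _ _ hgt.le)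
    obtain ⟨hnpos, v, hv⟩ : P n := Nat.findGreatest_spec hm₀N hm₀
    have hmax : ∀ m, n < m → ∀ x, LinearMap.lTensor V (comp J h m) (ρ x) = 0 := by
      intro m hm x
      by_contra hx
      rcases le_or_gt m N with hmN | hmN
      · exact Nat.findGreatest_is_greatest hm hmN ⟨by omega, x, hx⟩
      · exact hx (hN x m hmN.le)
    obtain ⟨φ, hφ⟩ : ∃ φ : (A ⧸ J) →ₗ[k] k,
        Groth.Agent.HopfLib.sliceR φ (LinearMap.lTensor V (comp J h n) (ρ v)) ≠ 0 := by
      by_contra hc
      push Not at hc
      exact hv (Groth.Agent.HopfLib.eq_of_forall_sliceR_eq fun g => by rw [hc g, map_zero])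
    refine (Submodule.ne_bot_iff _).mpr ⟨_, ?_, hφ⟩
    let ψ : (A ⧸ J) ⊗[k] (A ⧸ J) →ₗ[k] A ⧸ J :=
      (TensorProduct.rid k (A ⧸ J)).toLinearMap ∘ₗ LinearMap.lTensor (A ⧸ J) (φ ∘ₗ comp J h n)
    have h1 : ∀ t : V ⊗[k] (A ⧸ J), ρ (Groth.Agent.HopfLib.sliceR φ (LinearMap.lTensor V (comp J h n) t)) =
        LinearMap.lTensor V ψ ((TensorProduct.assoc k V (A ⧸ J) (A ⧸ J)) (ρ.rTensor (A ⧸ J) t)) := by
      intro t
      induction t using TensorProduct.induction_on with
      | zero => simp
      | add x y hx hy => simp only [map_add, hx, hy]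
      | tmul x b =>
        rw [LinearMap.lTensor_tmul, Groth.Agent.HopfLib.sliceR_tmul, LinearMap.rTensor_tmul, map_smul]
        induction ρ x using TensorProduct.induction_on with
        | zero => simp
        | add p q hp hq => simp only [smul_add, TensorProduct.add_tmul, map_add, hp, hq]
        | tmul p c => simp [ψ, TensorProduct.tmul_smul]
    show ρ _ = _ ⊗ₜ[k] (1 : A ⧸ J)
    rw [h1, show (TensorProduct.assoc k V (A ⧸ J) (A ⧸ J)) (ρ.rTensor (A ⧸ J) (ρ v)) =
      LinearMap.lTensor V (CoalgebraStruct.comul (R := k)) (ρ v) from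
        LinearMap.congr_fun (Comod.coassoc (k := k) (A := A ⧸ J) (V := V)) v,
      ← LinearMap.comp_apply, ← LinearMap.lTensor_comp]
    refine Groth.Agent.HopfLib.eq_of_forall_sliceL_eq fun f => ?_
    have hb : ∀ m, n < m → comp J h m (Groth.Agent.HopfLib.sliceL f (ρ v)) = 0 := fun m hm => by
      rw [← Groth.Agent.HopfLib.sliceL_lTensor, hmax m hm v, map_zero]
    rw [Groth.Agent.HopfLib.sliceL_lTensor, LinearMap.comp_apply]
    have hψ : ψ (CoalgebraStruct.comul (R := k) (Groth.Agent.HopfLib.sliceL f (ρ v))) =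
        φ (comp J h n (Groth.Agent.HopfLib.sliceL f (ρ v))) • (1 : A ⧸ J) := by
      show (TensorProduct.rid k (A ⧸ J)) (LinearMap.lTensor (A ⧸ J) (φ ∘ₗ comp J h n) _) = _
      rw [LinearMap.lTensor_comp, LinearMap.comp_apply, G.top_invariant hb, LinearMap.lTensor_tmul, rid_tmul]
    rw [hψ, Groth.Agent.HopfLib.sliceL_tmul]
    congr 1
    generalize ρ v = t
    induction t using TensorProduct.induction_on with
    | zero => simp
    | add p q hp hq => simp only [map_add, hp, hq]
    | tmul p c => simp [mul_comm]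

end Field

end Groth.Agent.DynLib
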