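import Groth.Agent.DynLib.Connected
import Groth.Agent.HopfLib.FaithfullyFlat
import Mathlib.RingTheory.Spectrum.Prime.Chevalley
import Mathlib.RingTheory.RingHom.Flat
import Mathlib.AlgebraicGeometry.Morphisms.Flat

/-!
# The dynamic subgroups under a flat surjective homomorphism
-/

set_option autoImplicit false
set_option linter.style.haveILetI false
set_option linter.unusedSectionVars false
set_option backward.isDefEq.respectTransparency.types false
set_option maxHeartbeats 800000

noncomputable section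

open LaurentPolynomial TensorProduct WithConv AlgebraicGeometry CategoryTheory

universe u

namespace Groth.Agent.DynLib

variable {k A A' : Type u} [CommRing A] [CommRing A']

section Ring

variable [Field k] [HopfAlgebra k A] [HopfAlgebra k A'] (φ : A' →ₐc[k] A) (lam : A →ₐc[k] k[T;T⁻¹])

theorem pull_mem_limSub {R : Type u} [CommRing R] [Algebra k R] {g : Pt k A R} (hg : g ∈ limSub R lam) :
    pull φ g ∈ limSub R (lam.comp φ) := by
  obtain ⟨q, hq⟩ := hg
  exact ⟨pull φ q, by rw [conj_pull, ← hq]; rfl⟩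

theorem pull_mem_oneSub {R : Type u} [CommRing R] [Algebra k R] {g : Pt k A R} (hg : g ∈ oneSub R lam) :
    pull φ g ∈ oneSub R (lam.comp φ) := by
  obtain ⟨h, h0, hh⟩ := hg
  refine ⟨pull φ h, ?_, by rw [conj_pull, ← hh]; rfl⟩
  show push (ev0 k R) (pull φ h) = 1
  rw [← map_one (pull (R := R) φ), ← show push (ev0 k R) h = 1 from h0]
  rfl

theorem limExists_le {J : Ideal A} {J' : Ideal A'}
    (hJ : Dyn.Represents k A J (fun R _ _ g => Dyn.LimExists k A lam R g))
    (hJ' : Dyn.Represents k A' J' (fun R _ _ g => Dyn.LimExists k A' (lam.comp φ) R g)) :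
    J' ≤ Ideal.comap (φ : A' →+* A) J := fun a ha => by
  have h := (hJ' (A ⧸ J) ((Ideal.Quotient.mkₐ k J).comp (φ : A' →ₐ[k] A))).2 ((limExists_iff _ _).2
    (pull_mem_limSub φ lam ((limExists_iff lam (Ideal.Quotient.mkₐ k J)).1
      ((hJ _ _).1 fun b hb => Ideal.Quotient.eq_zero_iff_mem.2 hb)))) a ha
  exact Ideal.mem_comap.2 (Ideal.Quotient.eq_zero_iff_mem.1 (h :))

theorem limIsOne_le {J : Ideal A} {J' : Ideal A'}
    (hJ : Dyn.Represents k A J (fun R _ _ g => Dyn.LimIsOne k A lam R g))
    (hJ' : Dyn.Represents k A' J' (fun R _ _ g => Dyn.LimIsOne k A' (lam.comp φ) R g)) :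
    J' ≤ Ideal.comap (φ : A' →+* A) J := fun a ha => by
  have h := (hJ' (A ⧸ J) ((Ideal.Quotient.mkₐ k J).comp (φ : A' →ₐ[k] A))).2 ((limIsOne_iff _ _).2
    (pull_mem_oneSub φ lam ((limIsOne_iff lam (Ideal.Quotient.mkₐ k J)).1
      ((hJ _ _).1 fun b hb => Ideal.Quotient.eq_zero_iff_mem.2 hb)))) a ha
  exact Ideal.mem_comap.2 (Ideal.Quotient.eq_zero_iff_mem.1 (h :))

end Ring

section Field

variable [Field k] [HopfAlgebra k A] [HopfAlgebra k A'] [Algebra.FiniteType k A] [Algebra.FiniteType k A']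
  (φ : A' →ₐc[k] A)

/-- A flat factor of a flat tensor product of algebra maps. -/
theorem flat_of_flat_map {B B' C C' : Type u} [CommRing B] [CommRing B'] [CommRing C] [CommRing C']
    [Algebra k B] [Algebra k B'] [Algebra k C] [Algebra k C'] (f : B' →ₐ[k] B) (g : C' →ₐ[k] C)
    (ε : B →ₐ[k] k) (h : (Algebra.TensorProduct.map f g).toRingHom.Flat) : g.toRingHom.Flat := by
  let i : C →ₐ[k] B ⊗[k] C := Algebra.TensorProduct.includeRight
  have h2 : (i.comp g).toRingHom.Flat := by
    have e : i.comp g = (Algebra.TensorProduct.map f g).comp Algebra.TensorProduct.includeRight := by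
      ext c; simp [i]
    rw [e]
    refine RingHom.Flat.comp ?_ h
    let j : C' →ₐ[k] C' ⊗[k] B' := Algebra.TensorProduct.includeLeft
    have e' : ((Algebra.TensorProduct.includeRight : C' →ₐ[k] B' ⊗[k] C') : C' →+* B' ⊗[k] C') =
        (Algebra.TensorProduct.comm k C' B').toRingEquiv.toRingHom.comp j.toRingHom := RingHom.ext fun _ => rfl
    rw [e']
    refine RingHom.Flat.comp ?_ (RingHom.Flat.of_bijective (Algebra.TensorProduct.comm k C' B').bijective)
    exact (RingHom.flat_algebraMap_iff (R := C') (S := C' ⊗[k] B')).2 inferInstance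
  let r : B ⊗[k] C →ₐ[k] C :=
    Algebra.TensorProduct.lift ((Algebra.ofId k C).comp ε) (AlgHom.id k C) fun _ _ => .all _ _
  have hr : ∀ c, r (i c) = c := fun c => by simp [r, i]
  letI := g.toRingHom.toAlgebra
  letI := (i.comp g).toRingHom.toAlgebra
  haveI : Module.Flat C' (B ⊗[k] C) := h2
  exact Module.Flat.of_retract (R := C') (M := B ⊗[k] C) (N := C)
    { toFun := i, map_add' := map_add i, map_smul' := fun a b => by
        show i (g a * b) = i (g a) * i b
        exact map_mul i _ _ }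
    { toFun := r, map_add' := map_add r, map_smul' := fun a b => by
        show r (i (g a) * b) = g a * r b
        rw [map_mul, hr] }
    (LinearMap.ext hr)

/-- The two factors of a flat homomorphism on the big cells. -/
theorem flat_factors (hflat : (φ : A' →+* A).Flat) (Jm Jp : Ideal A) (Jm' Jp' : Ideal A')
    (hm : Jm' ≤ Ideal.comap (φ : A' →+* A) Jm) (hp : Jp' ≤ Ideal.comap (φ : A' →+* A) Jp)
    (hopen : IsOpenImmersion (Spec.map (CommRingCat.ofHom (cellHom k Jm Jp).toRingHom)))
    (hopen' : IsOpenImmersion (Spec.map (CommRingCat.ofHom (cellHom k Jm' Jp').toRingHom)))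
    (εm : A ⧸ Jm →ₐ[k] k) (εp : A ⧸ Jp →ₐ[k] k) :
    (Ideal.quotientMap Jm (φ : A' →+* A) hm).Flat ∧ (Ideal.quotientMap Jp (φ : A' →+* A) hp).Flat := by
  let fm : A' ⧸ Jm' →ₐ[k] A ⧸ Jm := Ideal.quotientMapₐ Jm (φ : A' →ₐ[k] A) hm
  let fp : A' ⧸ Jp' →ₐ[k] A ⧸ Jp := Ideal.quotientMapₐ Jp (φ : A' →ₐ[k] A) hp
  have hcell : (Algebra.TensorProduct.map fm fp).comp (cellHom k Jm' Jp') =
      (cellHom k Jm Jp).comp (φ : A' →ₐ[k] A) := by
    refine AlgHom.ext fun a => ?_
    simp only [cellHom, AlgHom.comp_apply, Bialgebra.comulAlgHom_apply]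
    rw [show CoalgebraStruct.comul (R := k) ((φ : A' →ₐ[k] A) a) = TensorProduct.map (φ : A' →ₗ[k] A)
      (φ : A' →ₗ[k] A) (CoalgebraStruct.comul (R := k) a) from (CoalgHomClass.map_comp_comul_apply φ a).symm]
    generalize CoalgebraStruct.comul (R := k) a = t
    induction t using TensorProduct.induction_on with
    | zero => simp
    | add x y hx hy => simp only [map_add, hx, hy]
    | tmul b c => rfl
  let h := Spec.map (CommRingCat.ofHom (Algebra.TensorProduct.map fm fp).toRingHom)
  let j := Spec.map (CommRingCat.ofHom (cellHom k Jm' Jp').toRingHom)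
  haveI : IsOpenImmersion j := hopen'
  haveI : IsOpenImmersion (Spec.map (CommRingCat.ofHom (cellHom k Jm Jp).toRingHom)) := hopen
  haveI : Flat (Spec.map (CommRingCat.ofHom (φ : A' →+* A))) := Flat.SpecMap_iff.2 hflat
  have hfl : Flat (h ≫ j) := by
    have e : h ≫ j = Spec.map (CommRingCat.ofHom (cellHom k Jm Jp).toRingHom) ≫
        Spec.map (CommRingCat.ofHom (φ : A' →+* A)) := by
      simp only [h, j, ← Spec.map_comp, ← CommRingCat.ofHom_comp]
      congr 2
      exact congrArg AlgHom.toRingHom hcell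
    rw [e]
    infer_instance
  have hh : Flat h := MorphismProperty.of_isPullback (P := @Flat)
    (IsPullback.of_horiz_isIso_mono (fst := 𝟙 _) (snd := h) (f := h ≫ j) (g := j) ⟨Category.id_comp _⟩) hfl
  have hflat' : (Algebra.TensorProduct.map fm fp).toRingHom.Flat := Flat.SpecMap_iff.1 hh
  refine ⟨?_, flat_of_flat_map fm fp εm hflat'⟩
  refine flat_of_flat_map fp fm εp ?_
  have e : (Algebra.TensorProduct.map fp fm).toRingHom = (Algebra.TensorProduct.comm k _ _).toRingEquiv.toRingHom.comp
      ((Algebra.TensorProduct.map fm fp).toRingHom.comp (Algebra.TensorProduct.comm k _ _).toRingEquiv.toRingHom) := by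
    refine congrArg AlgHom.toRingHom (?_ : Algebra.TensorProduct.map fp fm =
      (Algebra.TensorProduct.comm k _ _).toAlgHom.comp ((Algebra.TensorProduct.map fm fp).comp
        (Algebra.TensorProduct.comm k _ _).toAlgHom))
    apply Algebra.TensorProduct.ext'
    intro x y
    simp
  rw [e]
  exact RingHom.Flat.comp (RingHom.Flat.comp (RingHom.Flat.of_bijective
    (Algebra.TensorProduct.comm k _ _).bijective) hflat') (RingHom.Flat.of_bijective
    (Algebra.TensorProduct.comm k _ _).bijective)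

/-- A flat map between connected quotient groups is injective. -/
theorem injective_quotientMap (J : Ideal A) (J' : Ideal A') [J.IsHopfIdeal k] [J'.IsHopfIdeal k]
    (h : J' ≤ Ideal.comap (φ : A' →+* A) J) (hf : (Ideal.quotientMap J (φ : A' →+* A) h).Flat)
    (hidem : ∀ e : A' ⧸ J', IsIdempotentElem e → e = 0 ∨ e = 1) :
    Function.Injective (Ideal.quotientMap J (φ : A' →+* A) h) := by
  let f := Ideal.quotientMap J (φ : A' →+* A) h
  letI := f.toAlgebra
  haveI : Module.Flat (A' ⧸ J') (A ⧸ J) := hf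
  haveI : IsScalarTower k (A' ⧸ J') (A ⧸ J) := .of_algebraMap_eq fun c => by
    show algebraMap k (A ⧸ J) c = Ideal.quotientMap J (φ : A' →+* A) h (Ideal.Quotient.mk J' (algebraMap k A' c))
    rw [Ideal.quotientMap_mk]
    exact (congrArg (Ideal.Quotient.mk J) ((φ : A' →ₐ[k] A).commutes c)).symm
  haveI : IsNoetherianRing A' := Algebra.FiniteType.isNoetherianRing k A'
  haveI : IsNoetherianRing (A' ⧸ J') := inferInstance
  haveI : Algebra.FiniteType (A' ⧸ J') (A ⧸ J) := Algebra.FiniteType.of_restrictScalars_finiteType k _ _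
  haveI : Algebra.FinitePresentation (A' ⧸ J') (A ⧸ J) := Algebra.FinitePresentation.of_finiteType.1 inferInstance
  have hopen : IsOpenMap (PrimeSpectrum.comap (algebraMap (A' ⧸ J') (A ⧸ J))) :=
    PrimeSpectrum.isOpenMap_comap_of_hasGoingDown_of_finitePresentation
  let ψ : A' →ₐc[k] A ⧸ J := (Bialgebra.Quotient.mkBialgHom J).comp φ
  have hψ : Set.range (PrimeSpectrum.comap (ψ : A' →+* A ⧸ J)) =
      PrimeSpectrum.zeroLocus (RingHom.ker (ψ : A' →+* A ⧸ J) : Set A') := by
    have hff := Groth.Agent.HopfLib.faithfullyFlat_range ψ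
    let rr : A' →+* (ψ : A' →ₐ[k] A ⧸ J).range := (ψ : A' →ₐ[k] A ⧸ J).rangeRestrict.toRingHom
    have hval : Function.Surjective (PrimeSpectrum.comap
        ((ψ : A' →ₐ[k] A ⧸ J).range.val : (ψ : A' →ₐ[k] A ⧸ J).range →+* A ⧸ J)) := by
      haveI : Module.FaithfullyFlat (ψ : A' →ₐ[k] A ⧸ J).range (A ⧸ J) := RingHom.faithfullyFlat_algebraMap_iff.1 hff
      exact PrimeSpectrum.comap_surjective_of_faithfullyFlat
    have hrr : Function.Surjective rr := (ψ : A' →ₐ[k] A ⧸ J).rangeRestrict_surjective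
    have hker : RingHom.ker rr = RingHom.ker (ψ : A' →+* A ⧸ J) := by
      ext a
      simp only [RingHom.mem_ker]
      exact Subtype.ext_iff
    have e : PrimeSpectrum.comap (ψ : A' →+* A ⧸ J) = PrimeSpectrum.comap rr ∘
        PrimeSpectrum.comap ((ψ : A' →ₐ[k] A ⧸ J).range.val : (ψ : A' →ₐ[k] A ⧸ J).range →+* A ⧸ J) := rfl
    rw [e, hval.range_comp, range_comap_of_surjective _ _ hrr, hker]
  have hclosed : IsClosed (Set.range (PrimeSpectrum.comap (algebraMap (A' ⧸ J') (A ⧸ J)))) := by
    have hcont := (PrimeSpectrum.isClosed_zeroLocus (RingHom.ker (ψ : A' →+* A ⧸ J) : Set A')).preimage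
      (PrimeSpectrum.continuous_comap (Ideal.Quotient.mk J'))
    have hinj := PrimeSpectrum.comap_injective_of_surjective (Ideal.Quotient.mk J') Ideal.Quotient.mk_surjective
    rw [← hψ, show PrimeSpectrum.comap (ψ : A' →+* A ⧸ J) = PrimeSpectrum.comap (Ideal.Quotient.mk J') ∘
        PrimeSpectrum.comap (algebraMap (A' ⧸ J') (A ⧸ J)) from funext fun q => (PrimeSpectrum.comap_comp_apply (Ideal.Quotient.mk J') (algebraMap (A' ⧸ J') (A ⧸ J)) q), Set.range_comp,
      Set.preimage_image_eq _ hinj] at hcont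
    exact hcont
  haveI := Groth.Agent.CAlgH3.preconnectedSpace_of_idempotents hidem
  haveI : Nonempty (PrimeSpectrum (A ⧸ J)) :=
    have : Nontrivial (A ⧸ J) := (Bialgebra.counitAlgHom k (A ⧸ J)).toRingHom.domain_nontrivial
    inferInstance
  have hsurj : Function.Surjective (PrimeSpectrum.comap (algebraMap (A' ⧸ J') (A ⧸ J))) :=
    Set.range_eq_univ.1 (IsClopen.eq_univ ⟨hclosed, hopen.isOpen_range⟩ (Set.range_nonempty _))
  haveI := Module.FaithfullyFlat.of_comap_surjective hsurj
  exact FaithfulSMul.algebraMap_injective (A' ⧸ J') (A ⧸ J)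

end Field

end Groth.Agent.DynLib
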