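import Groth.Agent.DynLib.Thick
import Mathlib.RingTheory.Smooth.Basic
import Mathlib.RingTheory.Etale.Basic
import Mathlib.RingTheory.FinitePresentation
import Mathlib.RingTheory.TensorProduct.Maps
import Mathlib.AlgebraicGeometry.Morphisms.FlatMono
import Mathlib.AlgebraicGeometry.Morphisms.Etale
import Mathlib.RingTheory.Etale.Weakly

/-!
Smoothness of `P(λ)`, `U(λ)` in a smooth group and the open cell `U(−λ) × P(λ)`.
-/

set_option autoImplicit false
set_option linter.style.haveILetI false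
set_option backward.isDefEq.respectTransparency.types false

noncomputable section

open LaurentPolynomial TensorProduct WithConv

universe u

namespace Groth.Agent.DynLib

variable {k : Type u} [CommRing k] {A : Type u} [CommRing A] [HopfAlgebra k A]

theorem sqZero_mk {B : Type u} [CommRing B] [Algebra k B] (I : Ideal B) (hI : I ^ 2 = ⊥) :
    SqZero (Ideal.Quotient.mkₐ k I) := fun x y hx hy => by
  rw [← Ideal.mem_bot, ← hI, pow_two]
  exact Ideal.mul_mem_mul (Ideal.Quotient.eq_zero_iff_mem.1 hx) (Ideal.Quotient.eq_zero_iff_mem.1 hy)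

theorem SqZero.Pmap {R R' : Type u} [CommRing R] [Algebra k R] [CommRing R'] [Algebra k R']
    {φ : R →ₐ[k] R'} (hφ : SqZero φ) : SqZero (DynLib.Pmap φ) := fun x y hx hy => by
  have h : ∀ z, DynLib.Pmap φ z = 0 → DynLib.Lmap φ (jay k R z) = 0 := fun z hz => by
    rw [← AlgHom.comp_apply, Lmap_jay, AlgHom.comp_apply, hz, map_zero]
  exact jay_injective (k := k) (by rw [map_mul, map_zero, hφ.Lmap _ _ (h x hx) (h y hy)])

theorem jay_comp_cst (R : Type u) [CommRing R] [Algebra k R] :
    (jay k R).comp (IsScalarTower.toAlgHom k R (Polynomial R)) = cst k R :=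
  AlgHom.ext fun r => by
    show Polynomial.toLaurent (algebraMap R (Polynomial R) r) = _
    rw [Polynomial.algebraMap_eq, Polynomial.toLaurent_C, cst_apply]

/-- Ideals representing the same condition are equal. -/
theorem eq_of_represents (J J' : Ideal A)
    (h : ∀ (R : Type u) [CommRing R] [Algebra k R] (g : A →ₐ[k] R),
      (∀ a ∈ J, g a = 0) ↔ (∀ a ∈ J', g a = 0)) : J = J' := by
  refine le_antisymm (fun a ha => ?_) (fun a ha => ?_)
  · exact Ideal.Quotient.eq_zero_iff_mem.1
      ((h (A ⧸ J') (Ideal.Quotient.mkₐ k J')).2 (fun b hb => Ideal.Quotient.eq_zero_iff_mem.2 hb) a ha)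
  · exact Ideal.Quotient.eq_zero_iff_mem.1
      ((h (A ⧸ J) (Ideal.Quotient.mkₐ k J)).1 (fun b hb => Ideal.Quotient.eq_zero_iff_mem.2 hb) a ha)

variable {lam : A →ₐc[k] k[T;T⁻¹]}

theorem kills_iff_limSub {J : Ideal A}
    (hJ : Dyn.Represents k A J (fun R _ _ g => Dyn.LimExists k A lam R g))
    {R : Type u} [CommRing R] [Algebra k R] (g : Pt k A R) :
    (∀ a ∈ J, g.ofConv a = 0) ↔ g ∈ limSub R lam :=
  (hJ R g.ofConv).trans ((limExists_iff lam g.ofConv).trans (by rw [toConv_ofConv]))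

theorem kills_iff_oneSub {J : Ideal A}
    (hJ : Dyn.Represents k A J (fun R _ _ g => Dyn.LimIsOne k A lam R g))
    {R : Type u} [CommRing R] [Algebra k R] (g : Pt k A R) :
    (∀ a ∈ J, g.ofConv a = 0) ↔ g ∈ oneSub R lam :=
  (hJ R g.ofConv).trans ((limIsOne_iff lam g.ofConv).trans (by rw [toConv_ofConv]))

theorem limIdeal_fg [Algebra.FiniteType k A] (lam : A →ₐc[k] k[T;T⁻¹]) : (limIdeal lam).FG := by
  classical
  obtain ⟨s, hs⟩ := (Algebra.FiniteType.out : (⊤ : Subalgebra k A).FG)
  let c := conj A lam (toConv (AlgHom.id k A))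
  let G : Finset A := s.biUnion fun a => ((c.ofConv a).coeff.support.filter (· < 0)).image (cf lam · a)
  let J : Ideal A := Ideal.span G
  refine ⟨G, le_antisymm (Ideal.span_le.2 fun x hx => ?_) ?_⟩
  · obtain ⟨a, -, n, hn, rfl⟩ : ∃ a ∈ s, ∃ n : ℤ, n < 0 ∧ cf lam n a = x := by
      simp only [G, Finset.coe_biUnion, Set.mem_iUnion, Finset.coe_image, Set.mem_image,
        Finset.mem_coe, Finset.mem_filter] at hx
      obtain ⟨a, ha, n, ⟨-, hn⟩, rfl⟩ := hx
      exact ⟨a, ha, n, hn, rfl⟩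
    exact Ideal.subset_span ⟨a, n, hn, rfl⟩
  · let g : Pt k A (A ⧸ J) := toConv (Ideal.Quotient.mkₐ k J)
    have hgen : ∀ a ∈ s, (conj (A ⧸ J) lam g).ofConv a ∈ (jay k (A ⧸ J)).range := fun a ha =>
      mem_range_jay fun n hn => by
        rw [coeff_conj]
        show Ideal.Quotient.mk J (cf lam n a) = 0
        by_cases h0 : n ∈ (c.ofConv a).coeff.support
        · exact Ideal.Quotient.eq_zero_iff_mem.2 (Ideal.subset_span (Finset.mem_biUnion.2
            ⟨a, ha, Finset.mem_image.2 ⟨n, Finset.mem_filter.2 ⟨h0, hn⟩, rfl⟩⟩))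
        · rw [show cf lam n a = 0 from Finsupp.notMem_support_iff.1 h0, map_zero]
    have hall : ∀ a, (conj (A ⧸ J) lam g).ofConv a ∈ (jay k (A ⧸ J)).range := by
      have : (⊤ : Subalgebra k A) ≤ (jay k (A ⧸ J)).range.comap (conj (A ⧸ J) lam g).ofConv := by
        rw [← hs, Algebra.adjoin_le_iff]
        exact fun a ha => hgen a ha
      exact fun a => this (Algebra.mem_top)
    intro x hx
    refine Ideal.Quotient.eq_zero_iff_mem.1 ((kills_limIdeal_iff lam g.ofConv).2 ?_ x hx)
    obtain ⟨q, hq⟩ := exists_push_jay (conj (A ⧸ J) lam g) fun a n hn => by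
      obtain ⟨p, hp⟩ := hall a
      rw [← hp]
      exact jay_coeff_neg p hn
    exact ⟨q, by rw [toConv_ofConv]; exact hq⟩

theorem oneIdeal_fg [Algebra.FiniteType k A] (lam : A →ₐc[k] k[T;T⁻¹]) : (oneIdeal lam).FG := by
  classical
  obtain ⟨s, hs⟩ := (Algebra.FiniteType.out : (⊤ : Subalgebra k A).FG)
  let G : Finset A := s.image fun a => cf lam 0 a - algebraMap k A (CoalgebraStruct.counit (R := k) a)
  have key : oneIdeal lam = limIdeal lam ⊔ Ideal.span G := by
    refine le_antisymm ?_ (sup_le le_sup_left (Ideal.span_le.2 fun x hx => ?_))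
    · let J := limIdeal lam ⊔ Ideal.span (G : Set A)
      let g : Pt k A (A ⧸ J) := toConv (Ideal.Quotient.mkₐ k J)
      obtain ⟨h, hh⟩ := (kills_limIdeal_iff lam g.ofConv).1 fun a ha =>
        Ideal.Quotient.eq_zero_iff_mem.2 (Submodule.mem_sup_left ha)
      have h0 : push (ev0 k (A ⧸ J)) h = 1 := by
        refine WithConv.ext (AlgHom.ext_of_adjoin_eq_top hs fun a ha => ?_)
        have := coeff_conj lam (toConv g.ofConv) a 0
        rw [← hh, push_apply, jay_coeff_zero] at this
        rw [push_apply, ev0_apply, this, one_apply]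
        show Ideal.Quotient.mk J (cf lam 0 a) = _
        rw [eps, IsScalarTower.algebraMap_apply k A (A ⧸ J), Ideal.Quotient.algebraMap_eq,
          Ideal.Quotient.eq]
        exact Submodule.mem_sup_right (Ideal.subset_span (Finset.mem_image_of_mem _ ha))
      intro x hx
      exact Ideal.Quotient.eq_zero_iff_mem.1 ((kills_oneIdeal_iff lam g.ofConv).2 ⟨h, h0, hh⟩ x hx)
    · obtain ⟨a, -, rfl⟩ := Finset.mem_image.1 hx
      exact Submodule.mem_sup_right (Ideal.subset_span ⟨a, rfl⟩)
  rw [key]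
  exact Submodule.FG.sup (limIdeal_fg lam) ⟨G, rfl⟩

theorem fg_of_limExists [Algebra.FiniteType k A] {J : Ideal A}
    (hJ : Dyn.Represents k A J (fun R _ _ g => Dyn.LimExists k A lam R g)) : J.FG :=
  eq_of_represents (k := k) (limIdeal lam) J (fun R _ _ g =>
    (kills_limIdeal_iff lam g).trans (kills_iff_limSub hJ (toConv g)).symm) ▸ limIdeal_fg lam

theorem fg_of_limIsOne [Algebra.FiniteType k A] {J : Ideal A}
    (hJ : Dyn.Represents k A J (fun R _ _ g => Dyn.LimIsOne k A lam R g)) : J.FG :=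
  eq_of_represents (k := k) (oneIdeal lam) J (fun R _ _ g =>
    (kills_oneIdeal_iff lam g).trans (kills_iff_oneSub hJ (toConv g)).symm) ▸ oneIdeal_fg lam

variable {lamNeg : A →ₐc[k] k[T;T⁻¹]}

theorem neg_symm (hneg : (lamNeg : A →ₐ[k] k[T;T⁻¹]) = Dyn.negParam k A lam) :
    (lam : A →ₐ[k] k[T;T⁻¹]) = Dyn.negParam k A lamNeg := by
  rw [Dyn.negParam, hneg, Dyn.negParam, ← AlgHom.comp_assoc]
  refine (AlgHom.id_comp _).symm.trans (congrArg (fun φ => AlgHom.comp φ _) (Lext' ?_))
  simp

/-- Lifting of limit points along square-zero thickenings, in a formally smooth group. -/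
theorem exists_lift_limSub [Algebra.FormallySmooth k A]
    (hneg : (lamNeg : A →ₐ[k] k[T;T⁻¹]) = Dyn.negParam k A lam)
    {B : Type u} [CommRing B] [Algebra k B] (I : Ideal B) (hI : I ^ 2 = ⊥)
    (g : Pt k A (B ⧸ I)) (h : Pt k A (Polynomial (B ⧸ I)))
    (hh : push (jay k (B ⧸ I)) h = conj (B ⧸ I) lam g) :
    ∃ (g₁ : Pt k A B) (h₁ : Pt k A (Polynomial B)), push (Ideal.Quotient.mkₐ k I) g₁ = g ∧
      push (Pmap (Ideal.Quotient.mkₐ k I)) h₁ = h ∧ push (jay k B) h₁ = conj B lam g₁ := by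
  set π := Ideal.Quotient.mkₐ k I
  have hπ := sqZero_mk (k := k) I hI
  let g₀ : Pt k A B := toConv (Algebra.FormallySmooth.lift I ⟨2, hI⟩ g.ofConv)
  have hg₀ : push π g₀ = g := WithConv.ext (Algebra.FormallySmooth.comp_lift I ⟨2, hI⟩ g.ofConv)
  have hsurj : Function.Surjective (Pmap π) := Polynomial.map_surjective _ Ideal.Quotient.mk_surjective
  have hnil : IsNilpotent (RingHom.ker (Pmap π : Polynomial B →+* Polynomial (B ⧸ I))) := by
    refine ⟨2, ?_⟩
    rw [pow_two, Submodule.zero_eq_bot, eq_bot_iff, Ideal.mul_le]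
    exact fun x hx y hy => Ideal.mem_bot.2 (hπ.Pmap x y hx hy)
  let h' : Pt k A (Polynomial B) :=
    toConv (Algebra.FormallySmooth.liftOfSurjective h.ofConv (Pmap π) hsurj hnil)
  have hh' : push (Pmap π) h' = h :=
    WithConv.ext (Algebra.FormallySmooth.comp_liftOfSurjective h.ofConv (Pmap π) hsurj hnil)
  obtain ⟨η, hη, -, h₁, hh₁⟩ := exists_neg_part hneg hπ g₀ h' (by
    rw [push_conj, hg₀, push_push, Lmap_jay, ← push_push, hh', hh])
  have h1 : push π (η⁻¹ * g₀) = g := by rw [map_mul, map_inv, hη, inv_one, one_mul, hg₀]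
  refine ⟨η⁻¹ * g₀, h₁, h1, push_injective _ jay_injective ?_, hh₁⟩
  rw [push_push, ← Lmap_jay, ← push_push, hh₁, push_conj, h1, hh]

theorem formallySmooth_limExists [Algebra.FormallySmooth k A]
    (hneg : (lamNeg : A →ₐ[k] k[T;T⁻¹]) = Dyn.negParam k A lam) {J : Ideal A}
    (hJ : Dyn.Represents k A J (fun R _ _ g => Dyn.LimExists k A lam R g)) :
    Algebra.FormallySmooth k (A ⧸ J) := by
  refine Algebra.FormallySmooth.of_comp_surjective fun B _ _ I hI f => ?_
  obtain ⟨h, hh⟩ := (kills_iff_limSub hJ (toConv (f.comp (Ideal.Quotient.mkₐ k J)))).1 fun a ha => by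
    show f (Ideal.Quotient.mk J a) = 0
    rw [Ideal.Quotient.eq_zero_iff_mem.2 ha, map_zero]
  obtain ⟨g₁, h₁, hg₁, -, hh₁⟩ := exists_lift_limSub hneg I hI _ h hh
  refine ⟨Ideal.Quotient.liftₐ J g₁.ofConv ((kills_iff_limSub hJ g₁).2 ⟨h₁, hh₁⟩),
    Ideal.Quotient.algHom_ext k ?_⟩
  exact congrArg WithConv.ofConv hg₁

theorem formallySmooth_limIsOne [Algebra.FormallySmooth k A]
    (hneg : (lamNeg : A →ₐ[k] k[T;T⁻¹]) = Dyn.negParam k A lam) {J : Ideal A}
    (hJ : Dyn.Represents k A J (fun R _ _ g => Dyn.LimIsOne k A lam R g)) :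
    Algebra.FormallySmooth k (A ⧸ J) := by
  refine Algebra.FormallySmooth.of_comp_surjective fun B _ _ I hI f => ?_
  obtain ⟨h, h0, hh⟩ := (kills_iff_oneSub hJ (toConv (f.comp (Ideal.Quotient.mkₐ k J)))).1 fun a ha => by
    show f (Ideal.Quotient.mk J a) = 0
    rw [Ideal.Quotient.eq_zero_iff_mem.2 ha, map_zero]
  have h0' : push (ev0 k (B ⧸ I)) h = 1 := h0
  obtain ⟨g₁, h₁, hg₁, hph, hh₁⟩ := exists_lift_limSub hneg I hI _ h hh
  set ζ := push (ev0 k B) h₁ with hζ
  have hζc : conj B lam ζ = push (cst k B) ζ := conj_limit lam g₁ h₁ hh₁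
  have hev : (Ideal.Quotient.mkₐ k I).comp (ev0 k B) = (ev0 k (B ⧸ I)).comp (Pmap (Ideal.Quotient.mkₐ k I)) :=
    AlgHom.ext fun p => by simp [ev0_apply, Pmap_coeff]
  have hζ1 : push (Ideal.Quotient.mkₐ k I) ζ = 1 := by rw [hζ, push_push, hev, ← push_push, hph, h0']
  have he : (ev0 k B).comp (IsScalarTower.toAlgHom k B (Polynomial B)) = AlgHom.id k B :=
    AlgHom.ext fun r => by simp [ev0_apply]
  have hmem : ζ⁻¹ * g₁ ∈ oneSub B lam := by
    refine ⟨push (IsScalarTower.toAlgHom k B (Polynomial B)) ζ⁻¹ * h₁, ?_, ?_⟩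
    · show push (ev0 k B) _ = 1
      rw [map_mul, push_push, he, ← hζ]
      exact inv_mul_cancel ζ
    · rw [map_mul, push_push, jay_comp_cst, hh₁, map_mul, map_inv (conj B lam), hζc, map_inv]
  refine ⟨Ideal.Quotient.liftₐ J (ζ⁻¹ * g₁).ofConv ((kills_iff_oneSub hJ _).2 hmem),
    Ideal.Quotient.algHom_ext k ?_⟩
  exact congrArg WithConv.ofConv
    (show push (Ideal.Quotient.mkₐ k I) (ζ⁻¹ * g₁) = toConv (f.comp (Ideal.Quotient.mkₐ k J)) by
      rw [map_mul, map_inv, hζ1, inv_one, one_mul, hg₁])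

variable (k) in
/-- The comorphism of the multiplication `U(−λ) × P(λ) → G`. -/
abbrev cellHom (Jm Jp : Ideal A) : A →ₐ[k] (A ⧸ Jm) ⊗[k] (A ⧸ Jp) :=
  (Algebra.TensorProduct.map (Ideal.Quotient.mkₐ k Jm) (Ideal.Quotient.mkₐ k Jp)).comp
    (Bialgebra.comulAlgHom k A)

theorem cellHom_point (Jm Jp : Ideal A) {R : Type u} [CommRing R] [Algebra k R]
    (φ : (A ⧸ Jm) ⊗[k] (A ⧸ Jp) →ₐ[k] R) :
    toConv (φ.comp (cellHom k Jm Jp)) =
      toConv ((φ.comp Algebra.TensorProduct.includeLeft).comp (Ideal.Quotient.mkₐ k Jm)) *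
        toConv ((φ.comp Algebra.TensorProduct.includeRight).comp (Ideal.Quotient.mkₐ k Jp)) := by
  refine WithConv.ext (AlgHom.ext fun a => ?_)
  rw [AlgHom.convMul_apply]
  simp only [cellHom, AlgHom.comp_apply, Bialgebra.comulAlgHom_apply, ofConv_toConv]
  generalize CoalgebraStruct.comul (R := k) a = t
  induction t using TensorProduct.induction_on with
  | zero => simp
  | add p q hp hq => simp only [map_add, hp, hq]
  | tmul b c => simp [← map_mul]

theorem cellHom_injective (hneg : (lamNeg : A →ₐ[k] k[T;T⁻¹]) = Dyn.negParam k A lam) {Jm Jp : Ideal A}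
    (hp : Dyn.Represents k A Jp (fun R _ _ g => Dyn.LimExists k A lam R g))
    (hm : Dyn.Represents k A Jm (fun R _ _ g => Dyn.LimIsOne k A lamNeg R g))
    {R : Type u} [CommRing R] [Algebra k R] (φ ψ : (A ⧸ Jm) ⊗[k] (A ⧸ Jp) →ₐ[k] R)
    (h : φ.comp (cellHom k Jm Jp) = ψ.comp (cellHom k Jm Jp)) : φ = ψ := by
  have h' := congrArg toConv h
  rw [cellHom_point, cellHom_point] at h'
  set u := toConv ((φ.comp Algebra.TensorProduct.includeLeft).comp (Ideal.Quotient.mkₐ k Jm))
  set p := toConv ((φ.comp Algebra.TensorProduct.includeRight).comp (Ideal.Quotient.mkₐ k Jp))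
  set u' := toConv ((ψ.comp Algebra.TensorProduct.includeLeft).comp (Ideal.Quotient.mkₐ k Jm))
  set p' := toConv ((ψ.comp Algebra.TensorProduct.includeRight).comp (Ideal.Quotient.mkₐ k Jp))
  have hkm : ∀ (w : (A ⧸ Jm) →ₐ[k] R), toConv (w.comp (Ideal.Quotient.mkₐ k Jm)) ∈ oneSub R lamNeg :=
    fun w => (kills_iff_oneSub hm _).1 fun a ha => by
      show w (Ideal.Quotient.mk Jm a) = 0
      rw [Ideal.Quotient.eq_zero_iff_mem.2 ha, map_zero]
  have hkp : ∀ (w : (A ⧸ Jp) →ₐ[k] R), toConv (w.comp (Ideal.Quotient.mkₐ k Jp)) ∈ limSub R lam :=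
    fun w => (kills_iff_limSub hp _).1 fun a ha => by
      show w (Ideal.Quotient.mk Jp a) = 0
      rw [Ideal.Quotient.eq_zero_iff_mem.2 ha, map_zero]
  have he : u'⁻¹ * u = p' * p⁻¹ := by
    rw [eq_mul_inv_iff_mul_eq, mul_assoc, h', inv_mul_cancel_left]
  have h1 : u'⁻¹ * u = 1 := eq_one_of_mem hneg (he ▸ mul_mem (hkp _) (inv_mem (hkp _)))
    (mul_mem (inv_mem (hkm _)) (hkm _))
  have hu : u = u' := (inv_mul_eq_one.1 h1).symm
  have hpp : p = p' := mul_left_cancel (a := u) (by rw [h', hu])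
  refine Algebra.TensorProduct.ext ?_ ?_
  · exact Ideal.Quotient.algHom_ext k (congrArg WithConv.ofConv hu)
  · exact Ideal.Quotient.algHom_ext k (congrArg WithConv.ofConv hpp)

/-- The coordinate ring of `U(−λ) × P(λ)`, as an algebra over that of `G` through multiplication. -/
def CellRing (k : Type u) [CommRing k] {A : Type u} [CommRing A] [Algebra k A] (Jm Jp : Ideal A) : Type u :=
  (A ⧸ Jm) ⊗[k] (A ⧸ Jp)

instance (Jm Jp : Ideal A) : CommRing (CellRing k Jm Jp) :=
  inferInstanceAs (CommRing ((A ⧸ Jm) ⊗[k] (A ⧸ Jp)))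

instance (Jm Jp : Ideal A) : Algebra k (CellRing k Jm Jp) :=
  inferInstanceAs (Algebra k ((A ⧸ Jm) ⊗[k] (A ⧸ Jp)))

instance (Jm Jp : Ideal A) : Algebra A (CellRing k Jm Jp) :=
  RingHom.toAlgebra (S := CellRing k Jm Jp) (cellHom k Jm Jp).toRingHom

instance (Jm Jp : Ideal A) : IsScalarTower k A (CellRing k Jm Jp) :=
  IsScalarTower.of_algebraMap_eq fun r => ((cellHom k Jm Jp).commutes r).symm

open AlgebraicGeometry CategoryTheory in
theorem isOpenImmersion_cell [Algebra.FinitePresentation k A] [Algebra.FormallySmooth k A]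
    (hneg : (lamNeg : A →ₐ[k] k[T;T⁻¹]) = Dyn.negParam k A lam) {Jm Jp : Ideal A}
    (hp : Dyn.Represents k A Jp (fun R _ _ g => Dyn.LimExists k A lam R g))
    (hm : Dyn.Represents k A Jm (fun R _ _ g => Dyn.LimIsOne k A lamNeg R g)) :
    IsOpenImmersion (Spec.map (CommRingCat.ofHom (cellHom k Jm Jp).toRingHom)) := by
  haveI := Algebra.FinitePresentation.quotient (R := k) (fg_of_limExists hp)
  haveI := Algebra.FinitePresentation.quotient (R := k) (fg_of_limIsOne hm)
  haveI := formallySmooth_limExists hneg hp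
  haveI := formallySmooth_limIsOne (neg_symm hneg) hm
  let C := CellRing k Jm Jp
  haveI : Algebra.FinitePresentation k C :=
    Algebra.FinitePresentation.trans k (A ⧸ Jm) ((A ⧸ Jm) ⊗[k] (A ⧸ Jp))
  haveI : Algebra.FinitePresentation A C :=
    Algebra.FinitePresentation.of_restrict_scalars_finitePresentation k A C
  haveI : Algebra.FormallyEtale A C := by
    refine Algebra.FormallyEtale.iff_comp_bijective.2 fun R _ _ I hI => ⟨fun φ ψ _ => ?_, fun f => ?_⟩
    · letI : Algebra k R := ((algebraMap A R).comp (algebraMap k A)).toAlgebra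
      haveI : IsScalarTower k A R := IsScalarTower.of_algebraMap_eq fun _ => rfl
      refine AlgHom.restrictScalars_injective k (cellHom_injective hneg hp hm _ _ (AlgHom.ext fun a => ?_))
      exact (φ.commutes a).trans (ψ.commutes a).symm
    · letI : Algebra k R := ((algebraMap A R).comp (algebraMap k A)).toAlgebra
      haveI : IsScalarTower k A R := IsScalarTower.of_algebraMap_eq fun _ => rfl
      set π := Ideal.Quotient.mkₐ k I
      let fk : (A ⧸ Jm) ⊗[k] (A ⧸ Jp) →ₐ[k] R ⧸ I := f.restrictScalars k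
      let g₀ : Pt k A R := toConv (IsScalarTower.toAlgHom k A R)
      let fu : (A ⧸ Jm) →ₐ[k] R ⧸ I := fk.comp Algebra.TensorProduct.includeLeft
      let fp : (A ⧸ Jp) →ₐ[k] R ⧸ I := fk.comp Algebra.TensorProduct.includeRight
      let u : (A ⧸ Jm) →ₐ[k] R := Algebra.FormallySmooth.lift I ⟨2, hI⟩ fu
      let p : (A ⧸ Jp) →ₐ[k] R := Algebra.FormallySmooth.lift I ⟨2, hI⟩ fp
      let U : Pt k A R := toConv (u.comp (Ideal.Quotient.mkₐ k Jm))
      let P : Pt k A R := toConv (p.comp (Ideal.Quotient.mkₐ k Jp))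
      have hU : U ∈ oneSub R lamNeg := (kills_iff_oneSub hm _).1 fun a ha => by
        show u (Ideal.Quotient.mk Jm a) = 0
        rw [Ideal.Quotient.eq_zero_iff_mem.2 ha, map_zero]
      have hP : P ∈ limSub R lam := (kills_iff_limSub hp _).1 fun a ha => by
        show p (Ideal.Quotient.mk Jp a) = 0
        rw [Ideal.Quotient.eq_zero_iff_mem.2 ha, map_zero]
      have hg₀ : push π g₀ = toConv (fk.comp (cellHom k Jm Jp)) :=
        WithConv.ext (AlgHom.ext fun a => (f.commutes a).symm)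
      have hUP : push π g₀ = push π U * push π P := by
        rw [hg₀, cellHom_point]
        refine congrArg₂ _ ?_ ?_
        · exact WithConv.ext (AlgHom.ext fun a =>
            (DFunLike.congr_fun (Algebra.FormallySmooth.comp_lift I ⟨2, hI⟩ fu) (Ideal.Quotient.mk Jm a)).symm)
        · exact WithConv.ext (AlgHom.ext fun a =>
            (DFunLike.congr_fun (Algebra.FormallySmooth.comp_lift I ⟨2, hI⟩ fp) (Ideal.Quotient.mk Jp a)).symm)
      have hξ : push π (U⁻¹ * g₀ * P⁻¹) = 1 := by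
        rw [map_mul, map_mul, hUP, map_inv, map_inv]; group
      obtain ⟨η, hη, hηm, hηp⟩ := exists_neg_part hneg (sqZero_mk (k := k) I hI) (U⁻¹ * g₀ * P⁻¹) 1
        (by rw [push_conj, hξ, map_one, map_one, map_one])
      have hu' := (kills_iff_oneSub hm _).2 (mul_mem hU hηm)
      have hp' := (kills_iff_limSub hp _).2 (mul_mem hηp hP)
      let φk : (A ⧸ Jm) ⊗[k] (A ⧸ Jp) →ₐ[k] R := Algebra.TensorProduct.lift (Ideal.Quotient.liftₐ Jm _ hu')
        (Ideal.Quotient.liftₐ Jp _ hp') fun _ _ => Commute.all _ _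
      have hφk : toConv (φk.comp (cellHom k Jm Jp)) = g₀ := by
        rw [cellHom_point]
        have e1 : toConv ((φk.comp Algebra.TensorProduct.includeLeft).comp (Ideal.Quotient.mkₐ k Jm)) = U * η :=
          WithConv.ext (AlgHom.ext fun a => by
            simp only [φk, AlgHom.comp_apply, ofConv_toConv, Ideal.Quotient.mkₐ_eq_mk, Algebra.TensorProduct.includeLeft_apply,
              Algebra.TensorProduct.includeRight_apply, Algebra.TensorProduct.lift_tmul, map_one, one_mul, mul_one]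
            rfl)
        have e2 : toConv ((φk.comp Algebra.TensorProduct.includeRight).comp (Ideal.Quotient.mkₐ k Jp)) =
            η⁻¹ * (U⁻¹ * g₀ * P⁻¹) * P := WithConv.ext (AlgHom.ext fun a => by
            simp only [φk, AlgHom.comp_apply, ofConv_toConv, Ideal.Quotient.mkₐ_eq_mk, Algebra.TensorProduct.includeLeft_apply,
              Algebra.TensorProduct.includeRight_apply, Algebra.TensorProduct.lift_tmul, map_one, one_mul, mul_one]
            rfl)
        rw [e1, e2]
        group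
      let φ : C →ₐ[A] R :=
        { φk.toRingHom with
          commutes' := fun a => congrArg (fun q : Pt k A R => q.ofConv a) hφk }
      refine ⟨φ, AlgHom.restrictScalars_injective k (cellHom_injective hneg hp hm _ _ (AlgHom.ext fun a => ?_))⟩
      exact (((Ideal.Quotient.mkₐ A I).comp φ).commutes a).trans (f.commutes a).symm
  haveI : Algebra.Etale A C := { formallyEtale := inferInstance, finitePresentation := inferInstance }
  haveI : Algebra.WeaklyEtale A C := inferInstance
  haveI : Flat (Spec.map (CommRingCat.ofHom (cellHom k Jm Jp).toRingHom)) :=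
    HasRingHomProperty.Spec_iff.2 (RingHom.flat_algebraMap_iff.2 (inferInstance : Module.Flat A C))
  haveI : LocallyOfFinitePresentation (Spec.map (CommRingCat.ofHom (cellHom k Jm Jp).toRingHom)) :=
    HasRingHomProperty.Spec_iff.2 (show RingHom.FinitePresentation (cellHom k Jm Jp).toRingHom from
      (inferInstance : Algebra.FinitePresentation A C))
  haveI : Mono (Spec.map (CommRingCat.ofHom (cellHom k Jm Jp).toRingHom)) := by
    haveI : Epi (CommRingCat.ofHom (cellHom k Jm Jp).toRingHom) := ⟨fun {Z} g h e => by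
      letI : Algebra k Z := (g.hom.comp (algebraMap k C)).toAlgebra
      have hk : ∀ r, h.hom (algebraMap k C r) = g.hom (algebraMap k C r) := fun r => by
        have := congrArg (fun w => w.hom (algebraMap k A r)) e
        simp only [CommRingCat.hom_comp, CommRingCat.hom_ofHom, RingHom.comp_apply] at this
        rw [show (cellHom k Jm Jp).toRingHom (algebraMap k A r) = algebraMap k C r from
          (cellHom k Jm Jp).commutes r] at this
        exact this.symm
      let G : C →ₐ[k] Z := { g.hom with commutes' := fun r => rfl }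
      let H : C →ₐ[k] Z := { h.hom with commutes' := hk }
      have := cellHom_injective hneg hp hm G H (AlgHom.ext fun a => congrArg (fun w => w.hom a) e)
      exact CommRingCat.hom_ext (congrArg AlgHom.toRingHom this)⟩
    exact (Scheme.Spec).map_mono (CommRingCat.ofHom (cellHom k Jm Jp).toRingHom).op
  exact IsOpenImmersion.of_flat_of_mono _

end Groth.Agent.DynLib
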