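import Groth.Agent.DynLib.Grading
import Mathlib.RingTheory.Ideal.Quotient.Operations
import Mathlib.Tactic.LinearCombination
import Mathlib.Tactic.Ring
import Mathlib.Tactic.Group

/-!
Square-zero thickenings in the dynamic method: the negative part of a kernel point.
-/

set_option autoImplicit false
set_option linter.style.haveILetI false
set_option backward.isDefEq.respectTransparency.types false

noncomputable section

open LaurentPolynomial TensorProduct WithConv

universe u

namespace Groth.Agent.DynLib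

variable {k : Type u} [CommRing k] {A : Type u} [CommRing A] [HopfAlgebra k A]
  {R R' : Type u} [CommRing R] [Algebra k R] [CommRing R'] [Algebra k R']

/-- The kernel of `φ` squares to zero. -/
def SqZero (φ : R →ₐ[k] R') : Prop := ∀ x y : R, φ x = 0 → φ y = 0 → x * y = 0

theorem SqZero.Lmap {φ : R →ₐ[k] R'} (hφ : SqZero φ) : SqZero (DynLib.Lmap φ) := by
  intro f g hf hg
  have h : ∀ (e : R[T;T⁻¹]), DynLib.Lmap φ e = 0 → ∀ n, φ (e.coeff n) = 0 := fun e he n => by
    rw [← Lmap_coeff, he]; simp
  refine LaurentPolynomial.ext fun n => ?_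
  rw [AddMonoidAlgebra.coeff_mul]
  simp [Finsupp.sum, hφ _ _ (h f hf _) (h g hg _)]

/-- The counit as a scalar of `R`. -/
abbrev eps (R : Type u) [CommRing R] [Algebra k R] (a : A) : R :=
  algebraMap k R (CoalgebraStruct.counit (R := k) a)

theorem one_apply (a : A) : (1 : Pt k A R).ofConv a = eps (k := k) R a :=
  AlgHom.convOne_apply a

theorem eps_mul (a b : A) : eps (k := k) R (a * b) = eps (k := k) R a * eps (k := k) R b := by
  simp only [← one_apply, map_mul]

theorem map_eps {F : Type*} [FunLike F R R'] [AlgHomClass F k R R'] (φ : F) (a : A) :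
    φ (eps (k := k) R a) = eps (k := k) R' a :=
  AlgHomClass.commutes φ _

theorem eq_one_iff (x : Pt k A R) : x = 1 ↔ ∀ a, x.ofConv a = eps (k := k) R a :=
  ⟨fun h a => by rw [h, one_apply], fun h => WithConv.ext (AlgHom.ext fun a => by rw [h, one_apply])⟩

/-- Kernel points of a square-zero thickening multiply by adding their deviations. -/
theorem kernel_mul {φ : R →ₐ[k] R'} (hφ : SqZero φ) {x y : Pt k A R} (hx : push φ x = 1) (hy : push φ y = 1)
    (a : A) : (x * y).ofConv a = x.ofConv a + y.ofConv a - eps (k := k) R a := by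
  have e1 : x.ofConv a = (x * 1).ofConv a := by rw [mul_one]
  have e2 : y.ofConv a = (1 * y).ofConv a := by rw [one_mul]
  have e3 : eps (k := k) R a = ((1 : Pt k A R) * 1).ofConv a := by rw [one_mul, one_apply]
  rw [e1, e2, e3]
  simp only [AlgHom.convMul_apply]
  generalize CoalgebraStruct.comul (R := k) a = t
  induction t using TensorProduct.induction_on with
  | zero => simp
  | add p q hp hq => simp only [map_add, hp, hq]; ring
  | tmul b c =>
    simp only [Algebra.TensorProduct.lift_tmul]
    have hb : φ (x.ofConv b - eps (k := k) R b) = 0 := by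
      rw [map_sub, map_eps, ← push_apply, hx, one_apply, sub_self]
    have hc : φ (y.ofConv c - eps (k := k) R c) = 0 := by
      rw [map_sub, map_eps, ← push_apply, hy, one_apply, sub_self]
    have := hφ _ _ hb hc
    rw [one_apply, one_apply]
    linear_combination this

theorem kernel_inv {φ : R →ₐ[k] R'} (hφ : SqZero φ) {x : Pt k A R} (hx : push φ x = 1) (a : A) :
    x⁻¹.ofConv a = 2 * eps (k := k) R a - x.ofConv a := by
  have h := kernel_mul hφ (x := x⁻¹) (y := x) (by rw [map_inv, hx, inv_one]) hx a
  rw [inv_mul_cancel, one_apply] at h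
  linear_combination -h

theorem mu_coeff (f : R[T;T⁻¹]) (m n : ℤ) :
    ((mu k R f).coeff m).coeff n = if n = m then f.coeff m else 0 := by
  induction f using LaurentPolynomial.induction_on' with
  | add p q hp hq =>
    simp only [map_add, AddMonoidAlgebra.coeff_add, Finsupp.add_apply, hp, hq]
    split_ifs <;> simp
  | C_mul_T j a =>
    have hT : mu k R (T j) = C (T j) * T j := by
      obtain ⟨i, rfl | rfl⟩ := Int.eq_nat_or_neg j
      · rw [show ((i : ℤ)) = i * 1 by ring, ← T_pow, map_pow, mu_T, mul_pow, ← map_pow, T_pow, T_pow]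
      · have h1 : mu k R (T (i : ℤ)) = C (T (i : ℤ)) * T (i : ℤ) := by
          rw [show ((i : ℤ)) = i * 1 by ring, ← T_pow, map_pow, mu_T, mul_pow, ← map_pow, T_pow, T_pow]
        refine (isUnit_T (R := R) (i : ℤ)).map (mu k R) |>.mul_right_cancel ?_
        rw [← map_mul, ← T_add, h1, mul_mul_mul_comm, ← map_mul, ← T_add, ← T_add]
        simp
    rw [map_mul, mu_C, hT, ← mul_assoc, ← map_mul, ← single_eq_C_mul_T, ← single_eq_C_mul_T,
      AddMonoidAlgebra.coeff_single, AddMonoidAlgebra.coeff_single, Finsupp.single_apply,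
      Finsupp.single_apply]
    by_cases hjm : j = m
    · subst hjm
      rw [if_pos rfl, if_pos rfl, AddMonoidAlgebra.coeff_single, Finsupp.single_apply]
      split_ifs with h1 h2 <;> first | rfl | omega
    · rw [if_neg hjm, if_neg hjm]; simp

theorem coeff_eps (a : A) (n : ℤ) :
    (eps (k := k) R[T;T⁻¹] a).coeff n = if n = 0 then eps (k := k) R a else 0 := by
  have : eps (k := k) R[T;T⁻¹] a = C (eps (k := k) R a) := by
    rw [← cst_apply (k := k), map_eps]
  rw [this, C_apply]

/-- The counit of a coefficient function. -/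
theorem eps_cf (lam : A →ₐc[k] k[T;T⁻¹]) (m : ℤ) (a : A) :
    eps (k := k) R (cf lam m a) = if m = 0 then eps (k := k) R a else 0 := by
  have h := coeff_conj lam (1 : Pt k A R) a m
  rw [map_one, one_apply, one_apply, coeff_eps] at h
  exact h.symm

/-- Factorisation of a point through the polynomial ring. -/
theorem exists_push_jay (q : Pt k A R[T;T⁻¹]) (h : ∀ a, ∀ n < 0, (q.ofConv a).coeff n = 0) :
    ∃ q' : Pt k A (Polynomial R), push (jay k R) q' = q := by
  have hr : ∀ a, q.ofConv a ∈ (jay k R).range := fun a => mem_range_jay (h a)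
  refine ⟨toConv ((AlgEquiv.ofInjective (jay k R) jay_injective).symm.toAlgHom.comp
    (q.ofConv.codRestrict (jay k R).range hr)), WithConv.ext (AlgHom.ext fun a => ?_)⟩
  rw [push_apply]
  exact congrArg Subtype.val ((AlgEquiv.ofInjective (jay k R) jay_injective).apply_symm_apply ⟨_, hr a⟩)

theorem conj_neg {lam lamNeg : A →ₐc[k] k[T;T⁻¹]}
    (hneg : (lamNeg : A →ₐ[k] k[T;T⁻¹]) = Dyn.negParam k A lam) (g : Pt k A R) :
    conj R lamNeg g = push (inv' k R) (conj R lam g) := by
  have h1 : pre lamNeg (tee k R) = push (inv' k R) (pre lam (tee k R)) := by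
    rw [push_pre]
    refine congrArg toConv ?_
    rw [hneg, Dyn.negParam, ← AlgHom.comp_assoc]
    refine congrArg (fun φ => AlgHom.comp φ (lam : A →ₐ[k] k[T;T⁻¹])) (Lext' ?_)
    simp [inv']
  rw [conj_apply, conj_apply, map_mul, map_mul, map_inv, h1, push_push, inv'_cst]

theorem mem_limSub_neg_coeff {lam : A →ₐc[k] k[T;T⁻¹]} {g : Pt k A R} (hg : g ∈ limSub R lam) (a : A)
    {n : ℤ} (hn : n < 0) : ((conj R lam g).ofConv a).coeff n = 0 := by
  obtain ⟨h, hh⟩ := hg
  rw [← hh, push_apply, jay_coeff_neg _ hn]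

theorem mem_oneSub_of_coeff {lam : A →ₐc[k] k[T;T⁻¹]} {g : Pt k A R}
    (h : ∀ a, ∀ n < 0, ((conj R lam g).ofConv a).coeff n = 0)
    (h0 : ∀ a, ((conj R lam g).ofConv a).coeff 0 = eps (k := k) R a) : g ∈ oneSub R lam := by
  obtain ⟨q, hq⟩ := exists_push_jay _ h
  refine ⟨q, (eq_one_iff _).2 fun a => ?_, hq⟩
  rw [push_apply, ev0_apply, ← jay_coeff_zero (k := k), ← push_apply, hq, h0]

theorem oneSub_coeff_zero {lam : A →ₐc[k] k[T;T⁻¹]} {g : Pt k A R} (hg : g ∈ oneSub R lam) (a : A) :
    ((conj R lam g).ofConv a).coeff 0 = eps (k := k) R a := by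
  obtain ⟨h, h0, hh⟩ := hg
  have h0' : push (ev0 k R) h = 1 := h0
  rw [← hh, push_apply, jay_coeff_zero, ← ev0_apply (k := k), ← push_apply, h0', one_apply]

theorem oneSub_le_limSub (lam : A →ₐc[k] k[T;T⁻¹]) : oneSub (R := R) lam ≤ limSub R lam := by
  rintro g ⟨h, -, hh⟩; exact ⟨h, hh⟩

/-- A point in both `U(−λ)` and `P(λ)` is trivial. -/
theorem eq_one_of_mem {lam lamNeg : A →ₐc[k] k[T;T⁻¹]}
    (hneg : (lamNeg : A →ₐ[k] k[T;T⁻¹]) = Dyn.negParam k A lam) {g : Pt k A R}
    (h1 : g ∈ limSub R lam) (h2 : g ∈ oneSub R lamNeg) : g = 1 := by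
  have key : ∀ a, (conj R lam g).ofConv a = C (eps (k := k) R a) := fun a => by
    refine LaurentPolynomial.ext fun n => ?_
    rw [C_apply]
    rcases lt_trichotomy n 0 with hn | rfl | hn
    · rw [mem_limSub_neg_coeff h1 a hn, if_neg hn.ne]
    · have := oneSub_coeff_zero h2 a
      rw [conj_neg hneg, push_apply, inv'_coeff, neg_zero] at this
      rw [this, if_pos rfl]
    · have := mem_limSub_neg_coeff (oneSub_le_limSub _ h2) a (n := -n) (by omega)
      rw [conj_neg hneg, push_apply, inv'_coeff, _root_.neg_neg] at this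
      rw [this, if_neg hn.ne']
  refine (eq_one_iff _).2 fun a => ?_
  conv_lhs => rw [← push_ev1_conj lam g, push_apply, key, ev1_C]

variable (R) in
/-- The sum of the negative coefficients. -/
def negSum : R[T;T⁻¹] →+ R :=
  (Finsupp.liftAddHom fun n : ℤ => if n < 0 then AddMonoidHom.id R else 0).comp
    AddMonoidAlgebra.coeffAddEquiv.toAddMonoidHom

theorem negSum_apply (f : R[T;T⁻¹]) :
    negSum R f = ∑ n ∈ f.coeff.support, if n < 0 then f.coeff n else 0 := by
  simp only [negSum, AddMonoidHom.comp_apply, Finsupp.liftAddHom_apply, Finsupp.sum]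
  exact Finset.sum_congr rfl fun n _ => by split_ifs <;> rfl

theorem negSum_C_mul (r : R) (f : R[T;T⁻¹]) : negSum R (C r * f) = r * negSum R f := by
  induction f using LaurentPolynomial.induction_on' with
  | add p q hp hq => rw [mul_add, map_add, map_add, hp, hq, mul_add]
  | C_mul_T n a =>
    rw [← mul_assoc, ← map_mul, ← single_eq_C_mul_T, ← single_eq_C_mul_T]
    simp only [negSum, AddMonoidHom.comp_apply, AddEquiv.coe_toAddMonoidHom]
    erw [Finsupp.liftAddHom_apply_single, Finsupp.liftAddHom_apply_single]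
    split_ifs <;> simp

/-- The negative part: `g₀ = η · g₁` with `η` in `U(−λ)` and trivial on the thickened part, and
`g₁` in `P(λ)`, when the orbit of `g₀` has a limit modulo a square-zero ideal. -/
theorem exists_neg_part {lam lamNeg : A →ₐc[k] k[T;T⁻¹]}
    (hneg : (lamNeg : A →ₐ[k] k[T;T⁻¹]) = Dyn.negParam k A lam)
    {φ : R →ₐ[k] R'} (hφ : SqZero φ) (g₀ : Pt k A R) (h' : Pt k A (Polynomial R))
    (hh : push (Lmap φ) (conj R lam g₀) = push (Lmap φ) (push (jay k R) h')) :
    ∃ η : Pt k A R, push φ η = 1 ∧ η ∈ oneSub R lamNeg ∧ η⁻¹ * g₀ ∈ limSub R lam := by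
  set δ := conj R lam g₀ * (push (jay k R) h')⁻¹ with hδdef
  have hL := hφ.Lmap
  have hδ1 : push (Lmap φ) δ = 1 := by rw [map_mul, map_inv, hh, mul_inv_cancel]
  have hdev : ∀ a, Lmap φ (δ.ofConv a - eps (k := k) R[T;T⁻¹] a) = 0 := fun a => by
    rw [map_sub, map_eps, ← push_apply, hδ1, one_apply, sub_self]
  have hcI : ∀ a n, φ ((δ.ofConv a - eps (k := k) R[T;T⁻¹] a).coeff n) = 0 := fun a n => by
    rw [← Lmap_coeff, hdev]; rfl
  let D : A → R := fun a => negSum R (δ.ofConv a - eps (k := k) R[T;T⁻¹] a)
  have hDI : ∀ a, φ (D a) = 0 := fun a => by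
    simp only [D, negSum_apply, map_sum]
    exact Finset.sum_eq_zero fun n _ => by
      split_ifs
      · exact hcI a n
      · exact map_zero φ
  have hDadd : ∀ a b, D (a + b) = D a + D b := fun a b => by
    simp only [D, eps, map_add, add_sub_add_comm]
  have hDmul : ∀ a b, D (a * b) = eps (k := k) R a * D b + eps (k := k) R b * D a := fun a b => by
    have e : δ.ofConv (a * b) - eps (k := k) R[T;T⁻¹] (a * b) =
        C (eps (k := k) R a) * (δ.ofConv b - eps (k := k) R[T;T⁻¹] b) +
          C (eps (k := k) R b) * (δ.ofConv a - eps (k := k) R[T;T⁻¹] a) := by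
      have hz := hL _ _ (hdev a) (hdev b)
      rw [map_mul, eps_mul, ← cst_apply (k := k), ← cst_apply (k := k), map_eps, map_eps]
      linear_combination hz
    show negSum R _ = _
    rw [e, map_add, negSum_C_mul, negSum_C_mul]
  have hD0 : ∀ r : k, D (algebraMap k A r) = 0 := fun r => by
    simp [D, eps, AlgHom.commutes, Bialgebra.counit_algebraMap]
  let η : Pt k A R := toConv
    { toFun := fun a => eps (k := k) R a + D a
      map_one' := by
        have := hD0 1; rw [map_one] at this
        simp [eps, this, Bialgebra.counit_one]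
      map_mul' := fun a b => by
        rw [eps_mul, hDmul]
        have := hφ _ _ (hDI a) (hDI b)
        linear_combination -this
      map_zero' := by
        have := hD0 0; rw [map_zero] at this
        simp [eps, this]
      map_add' := fun a b => by rw [hDadd]; simp [eps]; ring
      commutes' := fun r => by
        show eps (k := k) R (algebraMap k A r) + D (algebraMap k A r) = _
        rw [hD0]; simp [eps, Bialgebra.counit_algebraMap] }
  have hη : ∀ a, η.ofConv a = eps (k := k) R a + D a := fun a => rfl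
  have hη1 : push φ η = 1 := (eq_one_iff _).2 fun a => by
    rw [push_apply, hη, map_add, map_eps, hDI, add_zero]
  -- the negative coefficients of `δ` are homogeneous
  have hhom : ∀ a (m : ℤ), ∀ n < 0,
      (δ.ofConv (cf lam m a)).coeff n = if n = m then (δ.ofConv a).coeff m else 0 := by
    let e' := push (mu' k R) h' * (conj (Polynomial R) lam h')⁻¹
    have he : conj R[T;T⁻¹] lam δ = push (mu k R) δ * push (Lmap (jay k R)) e' := by
      rw [hδdef, map_mul (conj R[T;T⁻¹] lam), map_inv (conj R[T;T⁻¹] lam), conj_conj,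
        map_mul (push (mu k R)), map_inv (push (mu k R)), push_push, mu_jay, ← push_push,
        map_mul (push (Lmap (jay k R))), map_inv (push (Lmap (jay k R))), push_conj]
      group
    have hLL := hL.Lmap
    have h1 : push (Lmap (Lmap φ)) (conj R[T;T⁻¹] lam δ) = 1 := by rw [push_conj, hδ1, map_one]
    have h2 : push (Lmap (Lmap φ)) (push (mu k R) δ) = 1 := by
      have : (Lmap (Lmap φ)).comp (mu k R) = (mu k R').comp (Lmap φ) :=
        Lext (fun r => by simp) (by simp)
      rw [push_push, this, ← push_push, hδ1, map_one]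
    have h3 : push (Lmap (Lmap φ)) (push (Lmap (jay k R)) e') = 1 := by
      have := congrArg (push (Lmap (Lmap φ))) he
      rw [h1, map_mul, h2, one_mul] at this
      exact this.symm
    intro a m n hn
    have := congrArg (fun z : R[T;T⁻¹][T;T⁻¹] => (z.coeff m).coeff n)
      ((congrArg (fun p : Pt k A R[T;T⁻¹][T;T⁻¹] => p.ofConv a) he).trans (kernel_mul hLL h2 h3 a))
    simp only [coeff_conj, AddMonoidAlgebra.coeff_add, AddMonoidAlgebra.coeff_sub, Finsupp.add_apply,
      Finsupp.sub_apply, push_apply, mu_coeff, Lmap_coeff, jay_coeff_neg _ hn, add_zero, coeff_eps] at this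
    rw [this]
    split_ifs <;> simp [coeff_eps, hn.ne]
  have hηco : ∀ a (m : ℤ), ((conj R lam η).ofConv a).coeff m =
      (if m = 0 then eps (k := k) R a else 0) + if m < 0 then (δ.ofConv a).coeff m else 0 := fun a m => by
    rw [coeff_conj, hη, eps_cf]
    congr 1
    show negSum R _ = _
    rw [negSum_apply]
    have hc : ∀ n : ℤ, (if n < 0 then
        (δ.ofConv (cf lam m a) - eps (k := k) R[T;T⁻¹] (cf lam m a)).coeff n else 0) =
        if n = m then (if m < 0 then (δ.ofConv a).coeff m else 0) else 0 := fun n => by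
      by_cases hn : n < 0
      · rw [if_pos hn, AddMonoidAlgebra.coeff_sub, Finsupp.sub_apply, coeff_eps, if_neg hn.ne, sub_zero,
          hhom a m n hn]
        by_cases hnm : n = m
        · subst hnm; simp [hn]
        · simp [hnm]
      · rw [if_neg hn]
        by_cases hnm : n = m
        · subst hnm; simp [hn]
        · simp [hnm]
    rw [Finset.sum_congr rfl fun n _ => hc n, Finset.sum_ite_eq' _ m]
    split_ifs with hm hm' <;> try rfl
    rw [Finsupp.notMem_support_iff, AddMonoidAlgebra.coeff_sub, Finsupp.sub_apply, coeff_eps,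
      if_neg (by omega), sub_zero, hhom a m m (by assumption), if_pos rfl] at hm
    exact hm.symm
  refine ⟨η, hη1, mem_oneSub_of_coeff (fun a n hn => ?_) (fun a => ?_), ?_⟩
  · rw [conj_neg hneg, push_apply, inv'_coeff, hηco, if_neg (by omega), if_neg (by omega), add_zero]
  · rw [conj_neg hneg, push_apply, inv'_coeff, hηco, neg_zero, if_pos rfl, if_neg (by omega), add_zero]
  · have hc1 : push (Lmap φ) (conj R lam η) = 1 := by rw [push_conj, hη1, map_one]
    obtain ⟨q, hq⟩ := exists_push_jay ((conj R lam η)⁻¹ * δ) fun a n hn => by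
      rw [kernel_mul hL (by rw [map_inv, hc1, inv_one]) hδ1, kernel_inv hL hc1, two_mul]
      simp only [AddMonoidAlgebra.coeff_add, AddMonoidAlgebra.coeff_sub, Finsupp.add_apply,
        Finsupp.sub_apply, hηco, coeff_eps, if_neg hn.ne, if_pos hn]
      abel
    refine ⟨q * h', ?_⟩
    show push (jay k R) (q * h') = conj R lam (η⁻¹ * g₀)
    rw [map_mul, hq, hδdef, map_mul, map_inv]
    group

end Groth.Agent.DynLib
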