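import Groth.Agent.DynLib.Smooth
import Groth.Agent.HopfLib.Comod
import Groth.Prelude.Def_ComodSub
import Mathlib.RingTheory.OrzechProperty
import Mathlib.LinearAlgebra.TensorProduct.Tower

/-!
Weights of a cocharacter on finite subcomodules: a product of contracted points in a closed
subgroup has both factors in the subgroup.
-/

set_option autoImplicit false
set_option linter.style.haveILetI false
set_option backward.isDefEq.respectTransparency.types false

noncomputable section

open LaurentPolynomial TensorProduct WithConv HopfRep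
open Coalgebra (comul counit)

universe u

namespace Groth.Agent.DynLib

section Abstract

theorem mem_of_triangular {E : Type*} [Ring E] {ι : Type*} [LinearOrder ι] (S : Subring E)
    (hS : ∀ x : Eˣ, (x : E) ∈ S → ((x⁻¹ : Eˣ) : E) ∈ S)
    (F : Finset ι) (e : ι → E) (he : ∀ i, e i ∈ S)
    (horth : ∀ i j, e i * e j = if i = j then e i else 0) (hsum : ∑ i ∈ F, e i = 1)
    (u p : Eˣ) (hg : (u : E) * p ∈ S)
    (hp : ∀ n m, n < m → e n * (p : E) * e m = 0)
    (hp' : ∀ n m, n < m → e n * ((p⁻¹ : Eˣ) : E) * e m = 0)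
    (hu : ∀ n m, m < n → e n * (u : E) * e m = 0)
    (hu' : ∀ n m, m < n → e n * ((u⁻¹ : Eˣ) : E) * e m = 0)
    (hu1 : ∀ m, e m * ((u⁻¹ : Eˣ) : E) * e m = e m) : (p : E) ∈ S := by
  classical
  set pi : E := ((p⁻¹ : Eˣ) : E) with hpi
  set ui : E := ((u⁻¹ : Eˣ) : E) with hui
  have upper : ∀ G ⊆ F, (∀ n ∈ G, ∀ n' ∈ F, n ≤ n' → n' ∈ G) →
      pi * (∑ i ∈ G, e i) * ui ∈ S := by
    intro G hG hup
    set P := ∑ i ∈ G, e i with hP
    have hPmem : P ∈ S := sum_mem fun i _ => he i
    have hPP : P * P = P := by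
      rw [hP, Finset.sum_mul]
      refine Finset.sum_congr rfl fun i hi => ?_
      rw [Finset.mul_sum, Finset.sum_congr rfl fun j _ => horth i j, Finset.sum_ite_eq, if_pos hi]
    have hlow : ∀ x : E, (∀ n m, n < m → e n * x * e m = 0) → P * x * P = x * P := by
      intro x hx
      conv_rhs => rw [← one_mul x, ← hsum, Finset.sum_mul, Finset.sum_mul]
      rw [hP, Finset.sum_mul, Finset.sum_mul]
      refine Finset.sum_subset hG fun n hn hnG => ?_
      rw [Finset.mul_sum]
      exact Finset.sum_eq_zero fun m hm => hx n m (lt_of_not_ge fun hle => hnG (hup m hm n hn hle))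
    have hhigh : ∀ x : E, (∀ n m, m < n → e n * x * e m = 0) → P * x * P = P * x := by
      intro x hx
      conv_rhs => rw [← mul_one (P * x), ← hsum, Finset.mul_sum]
      rw [hP, Finset.mul_sum]
      refine Finset.sum_subset hG fun m hm hmG => ?_
      rw [Finset.sum_mul, Finset.sum_mul]
      exact Finset.sum_eq_zero fun n hn => hx n m (lt_of_not_ge fun hle => hmG (hup n hn m hm hle))
    have a1 := hlow _ hp
    have a2 := hlow _ hp'
    have b1 := hhigh _ hu
    have b2 := hhigh _ hu'
    set M := P * ((u : E) * p) * P + (1 - P) with hM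
    set N := pi * P * ui + (1 - P) with hN
    have hPN : P * (pi * P * ui) = pi * P * ui := by
      calc P * (pi * P * ui) = (P * pi * P) * ui := by simp only [mul_assoc]
        _ = pi * P * ui := by rw [a2]
    have hNP : (pi * P * ui) * P = pi * P * ui := by
      calc (pi * P * ui) * P = pi * (P * ui * P) := by simp only [mul_assoc]
        _ = pi * P * ui := by rw [b2, mul_assoc]
    have h1 : P * ((u : E) * p) * P * (pi * P * ui) = P := by
      calc P * ((u : E) * p) * P * (pi * P * ui)
          = P * ((u : E) * p) * (P * (pi * P * ui)) := by rw [mul_assoc]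
        _ = P * u * ((p : E) * pi) * P * ui := by rw [hPN]; simp only [mul_assoc]
        _ = (P * u * P) * ui := by rw [hpi, Units.mul_inv, mul_one]
        _ = P := by rw [b1, mul_assoc, hui, Units.mul_inv, mul_one]
    have h2 : (pi * P * ui) * (P * ((u : E) * p) * P) = P := by
      calc (pi * P * ui) * (P * ((u : E) * p) * P)
          = ((pi * P * ui) * P) * (((u : E) * p) * P) := by simp only [mul_assoc]
        _ = pi * P * (ui * u) * (p * P) := by rw [hNP]; simp only [mul_assoc]
        _ = pi * (P * p * P) := by rw [hui, Units.inv_mul, mul_one]; simp only [mul_assoc]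
        _ = P := by rw [a1, ← mul_assoc, hpi, Units.inv_mul, one_mul]
    have hMN : M * N = 1 := by
      have e1 : P * ((u : E) * p) * P * (1 - P) = 0 := by simp only [mul_sub, mul_one, mul_assoc, hPP, sub_self]
      have e2 : (1 - P) * (pi * P * ui) = 0 := by rw [sub_mul, one_mul, hPN, sub_self]
      have e3 : (1 - P) * (1 - P) = 1 - P := by rw [mul_sub, mul_one, sub_mul, one_mul, hPP]; abel
      rw [hM, hN, add_mul, mul_add, mul_add, h1, e1, e2, e3]; abel
    have hNM : N * M = 1 := by
      have e1 : pi * P * ui * (1 - P) = 0 := by rw [mul_sub, mul_one, hNP, sub_self]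
      have e2 : (1 - P) * (P * ((u : E) * p) * P) = 0 := by
        simp only [sub_mul, one_mul, ← mul_assoc, hPP, sub_self, zero_mul]
      have e3 : (1 - P) * (1 - P) = 1 - P := by rw [mul_sub, mul_one, sub_mul, one_mul, hPP]; abel
      rw [hM, hN, add_mul, mul_add, mul_add, h2, e1, e2, e3]; abel
    have hMS : M ∈ S := add_mem (mul_mem (mul_mem hPmem hg) hPmem) (sub_mem (one_mem S) hPmem)
    have hNS : N ∈ S := hS ⟨M, N, hMN, hNM⟩ hMS
    have : N - (1 - P) = pi * P * ui := by rw [hN, add_sub_cancel_right]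
    rw [← this]
    exact sub_mem hNS (sub_mem (one_mem S) hPmem)
  have hEm : ∀ m ∈ F, pi * e m * ui ∈ S := by
    intro m hm
    have h1 := upper (F.filter fun n => m ≤ n) (Finset.filter_subset _ _) fun n hn n' hn' hle =>
      Finset.mem_filter.2 ⟨hn', (Finset.mem_filter.1 hn).2.trans hle⟩
    have h2 := upper (F.filter fun n => m < n) (Finset.filter_subset _ _) fun n hn n' hn' hle =>
      Finset.mem_filter.2 ⟨hn', (Finset.mem_filter.1 hn).2.trans_le hle⟩
    have hins : F.filter (fun n => m ≤ n) = insert m (F.filter fun n => m < n) := by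
      ext n
      simp only [Finset.mem_filter, Finset.mem_insert, le_iff_lt_or_eq]
      constructor
      · rintro ⟨hn, h | h⟩
        · exact Or.inr ⟨hn, h⟩
        · exact Or.inl h.symm
      · rintro (rfl | ⟨hn, h⟩)
        · exact ⟨hm, Or.inr rfl⟩
        · exact ⟨hn, Or.inl h⟩
    rw [hins, Finset.sum_insert (by simp), mul_add, add_mul] at h1
    simpa using sub_mem h1 h2
  have hDi : ∀ m ∈ F, e m * pi * e m ∈ S := fun m hm => by
    have : e m * pi * e m = e m * (pi * e m * ui) * e m := by
      calc e m * pi * e m = e m * pi * (e m * ui * e m) := by rw [hu1]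
        _ = _ := by simp only [mul_assoc]
    rw [this]
    exact mul_mem (mul_mem (he m) (hEm m hm)) (he m)
  have hdiag : ∀ x y : Eˣ, (x : E) * y = 1 →
      (∀ n m, n < m → e n * (x : E) * e m = 0) → (∀ n m, n < m → e n * (y : E) * e m = 0) →
      (∑ m ∈ F, e m * (x : E) * e m) * (∑ m ∈ F, e m * (y : E) * e m) = 1 := by
    intro x y hxy hx hy
    rw [← hsum, Finset.sum_mul]
    refine Finset.sum_congr rfl fun m hm => ?_
    rw [Finset.mul_sum, Finset.sum_eq_single m]
    · calc e m * (x : E) * e m * (e m * y * e m) = e m * x * (e m * e m) * y * e m := by simp only [mul_assoc]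
        _ = e m * x * e m * y * e m := by rw [horth, if_pos rfl]
        _ = ∑ k ∈ F, e m * (x : E) * e k * y * e m := by
          rw [Finset.sum_eq_single m _ (fun h => absurd hm h)]
          intro k _ hk
          rcases lt_or_gt_of_ne hk with h | h
          · rw [mul_assoc (e m * (x : E)) (e k), mul_assoc (e m * (x : E)), hy k m h, mul_zero]
          · rw [hx m k h, zero_mul, zero_mul]
        _ = e m * x * (∑ k ∈ F, e k) * y * e m := by rw [Finset.mul_sum, Finset.sum_mul, Finset.sum_mul]
        _ = e m := by rw [hsum, mul_one, mul_assoc (e m), hxy, mul_one, horth, if_pos rfl]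
    · intro k _ hk
      calc e m * (x : E) * e m * (e k * y * e k) = e m * x * (e m * e k) * (y * e k) := by simp only [mul_assoc]
        _ = 0 := by rw [horth, if_neg (Ne.symm hk), mul_zero, zero_mul]
    · exact fun h => absurd hm h
  set D' := ∑ m ∈ F, e m * pi * e m with hD'
  set D := ∑ m ∈ F, e m * (p : E) * e m with hD
  have hD'D : D' * D = 1 := hdiag p⁻¹ p (Units.inv_mul p) hp' hp
  have hDD' : D * D' = 1 := hdiag p p⁻¹ (Units.mul_inv p) hp hp'
  have hDS : D ∈ S := hS ⟨D', D, hD'D, hDD'⟩ (sum_mem hDi)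
  have key : D' * p ∈ S := by
    rw [hD', Finset.sum_mul]
    refine sum_mem fun m hm => ?_
    have : e m * pi * e m * p = e m * ((pi * e m * ui) * ((u : E) * p)) := by
      calc e m * pi * e m * p = e m * pi * e m * (ui * u) * p := by rw [hui, Units.inv_mul, mul_one]
        _ = _ := by simp only [mul_assoc]
    rw [this]
    exact mul_mem (he m) (mul_mem (hEm m hm) hg)
  have := mul_mem hDS key
  rwa [← mul_assoc, hDD', one_mul] at this

variable {R N : Type*} [CommRing R] [AddCommGroup N] [Module R N]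

/-- Endomorphisms preserving a submodule. -/
def stabRing (W : Submodule R N) : Subring (Module.End R N) where
  carrier := {f | ∀ x ∈ W, f x ∈ W}
  mul_mem' hf hg x hx := hf _ (hg x hx)
  one_mem' _ hx := hx
  add_mem' hf hg x hx := add_mem (hf x hx) (hg x hx)
  zero_mem' _ _ := zero_mem W
  neg_mem' hf x hx := neg_mem (hf x hx)

theorem inv_mem_stabRing [Module.Finite R N] (W : Submodule R N) (f : (Module.End R N)ˣ)
    (h : (f : Module.End R N) ∈ stabRing W) :
    ((f⁻¹ : (Module.End R N)ˣ) : Module.End R N) ∈ stabRing W := by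
  intro y hy
  set g : Module.End R N := ((f⁻¹ : (Module.End R N)ˣ) : Module.End R N)
  let fb : (N ⧸ W) →ₗ[R] (N ⧸ W) := W.mapQ W (f : Module.End R N) h
  have hfg : ∀ z, (f : Module.End R N) (g z) = z := fun z => LinearMap.congr_fun f.mul_inv z
  have hsurj : Function.Surjective fb := fun z => by
    obtain ⟨z, rfl⟩ := Submodule.Quotient.mk_surjective W z
    exact ⟨Submodule.Quotient.mk (g z), congrArg Submodule.Quotient.mk (hfg z)⟩
  have hinj := OrzechProperty.injective_of_surjective_endomorphism fb hsurj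
  refine (Submodule.Quotient.mk_eq_zero W).1 (hinj ?_)
  rw [map_zero]
  show Submodule.Quotient.mk ((f : Module.End R N) (g y)) = 0
  rw [hfg, (Submodule.Quotient.mk_eq_zero W).2 hy]

end Abstract

section Act

variable {k : Type u} [CommRing k] {H : Type u} [CommRing H] [HopfAlgebra k H]
  {R : Type u} [CommRing R] [Algebra k R] {V : Type u} [AddCommGroup V] [Module k V] [Comod k H V]

/-- The operator on `R ⊗ V` of an `R`-valued form on the coordinate ring. -/
def act (φ : H →ₗ[k] R) : Module.End R (R ⊗[k] V) :=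
  LinearMap.liftBaseChange R
    ((TensorProduct.comm k V R).toLinearMap ∘ₗ φ.lTensor V ∘ₗ Comod.coact (k := k) (A := H) (V := V))

theorem act_tmul (φ : H →ₗ[k] R) (r : R) (v : V) :
    act φ (r ⊗ₜ[k] v) = r • TensorProduct.comm k V R (φ.lTensor V (Comod.coact v)) := rfl

theorem act_ext {f g : Module.End R (R ⊗[k] V)} (h : ∀ v, f (1 ⊗ₜ[k] v) = g (1 ⊗ₜ[k] v)) : f = g :=
  TensorProduct.AlgebraTensorModule.ext fun r v => by
    rw [← mul_one r, ← smul_eq_mul, ← TensorProduct.smul_tmul', map_smul, map_smul, h]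

theorem act_mul (f g : WithConv (H →ₗ[k] R)) :
    act (V := V) (f * g).ofConv = act f.ofConv * act g.ofConv := by
  refine act_ext fun v => ?_
  rw [Module.End.mul_apply, act_tmul, act_tmul, one_smul, one_smul]
  have e : ∀ t : V ⊗[k] H, act f.ofConv (TensorProduct.comm k V R (g.ofConv.lTensor V t)) =
      TensorProduct.comm k V R ((LinearMap.mul' k R ∘ₗ TensorProduct.map f.ofConv g.ofConv).lTensor V
        (TensorProduct.assoc k V H H ((Comod.coact (k := k) (A := H) (V := V)).rTensor H t))) := by
    intro t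
    induction t using TensorProduct.induction_on with
    | zero => simp
    | add x y hx hy => simp only [map_add, hx, hy]
    | tmul w h =>
      rw [LinearMap.lTensor_tmul, TensorProduct.comm_tmul, act_tmul, LinearMap.rTensor_tmul]
      generalize Comod.coact (k := k) (A := H) w = s
      induction s using TensorProduct.induction_on with
      | zero => simp
      | add x y hx hy => simp only [TensorProduct.add_tmul, map_add, smul_add, hx, hy]
      | tmul a b => simp [TensorProduct.smul_tmul', mul_comm]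
  rw [e, Groth.Agent.HopfLib.coassoc_apply, ← LinearMap.lTensor_comp_apply]
  rfl

theorem act_one : act (V := V) (1 : WithConv (H →ₗ[k] R)).ofConv = (1 : Module.End R (R ⊗[k] V)) := by
  refine act_ext fun v => ?_
  rw [act_tmul, one_smul, LinearMap.convOne_def, ofConv_toConv, LinearMap.lTensor_comp, LinearMap.comp_apply,
    Groth.Agent.HopfLib.counit_coact]
  simp

theorem act_add (f g : H →ₗ[k] R) : act (V := V) (f + g) = act f + act g :=
  act_ext fun v => by simp [act_tmul, LinearMap.lTensor_add]

theorem act_zero : act (V := V) (0 : H →ₗ[k] R) = 0 :=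
  act_ext fun v => by simp [act_tmul]

variable (k H R V) in
/-- The action as a ring homomorphism. -/
def actHom : WithConv (H →ₗ[k] R) →+* Module.End R (R ⊗[k] V) where
  toFun f := act f.ofConv
  map_one' := act_one
  map_mul' := act_mul
  map_zero' := act_zero
  map_add' f g := act_add f.ofConv g.ofConv

variable {A : Type u} [CommRing A] [HopfAlgebra k A]

/-- The action commutes with a morphism to the regular comodule of a quotient. -/
theorem act_natural (π : H →ₐc[k] A) (f : V →ₗ[k] A)
    (hf : ∀ v, comul (R := k) (f v) = TensorProduct.map f (π : H →ₗ[k] A) (Comod.coact v))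
    (φ : A →ₗ[k] R) (x : R ⊗[k] V) :
    f.baseChange R (act (φ ∘ₗ (π : H →ₗ[k] A)) x) = act (V := A) φ (f.baseChange R x) := by
  induction x using TensorProduct.induction_on with
  | zero => simp
  | add x y hx hy => simp only [map_add, hx, hy]
  | tmul r v =>
    rw [LinearMap.baseChange_tmul, act_tmul, act_tmul, map_smul,
      show Comod.coact (k := k) (A := A) (f v) = comul (R := k) (f v) from rfl, hf]
    congr 1
    generalize Comod.coact (k := k) (A := H) v = t
    induction t using TensorProduct.induction_on with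
    | zero => simp
    | add p q hp hq => simp only [map_add, hp, hq]
    | tmul a b => simp

end Act

section Weight

variable {k : Type u} [CommRing k] {H : Type u} [CommRing H] [HopfAlgebra k H]
  {R : Type u} [CommRing R] [Algebra k R] (lam : H →ₐc[k] k[T;T⁻¹])

variable (k R) in
/-- A coefficient, linearly. -/
def lco (n : ℤ) : R[T;T⁻¹] →ₗ[k] R where
  toFun f := f.coeff n
  map_add' f g := by simp
  map_smul' c f := by simp

theorem lco_apply (n : ℤ) (f : R[T;T⁻¹]) : lco k R n f = f.coeff n := rfl

/-- The linear form of a point. -/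
abbrev lin {S : Type u} [CommRing S] [Algebra k S] (x : Pt k H S) : WithConv (H →ₗ[k] S) :=
  toConv x.ofConv.toLinearMap

theorem lin_mul {S : Type u} [CommRing S] [Algebra k S] (x y : Pt k H S) : lin (x * y) = lin x * lin y :=
  AlgHom.toLinearMap_convMul x y

theorem lin_one {S : Type u} [CommRing S] [Algebra k S] : lin (1 : Pt k H S) = 1 :=
  AlgHom.toLinearMap_convOne

variable (R) in
/-- The weight projection forms. -/
def wt (n : ℤ) : WithConv (H →ₗ[k] R) :=
  toConv (Algebra.linearMap k R ∘ₗ lco k k n ∘ₗ (lam : H →ₐ[k] k[T;T⁻¹]).toLinearMap)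

/-- The constant forms. -/
abbrev cstF (X : WithConv (H →ₗ[k] R)) : WithConv (H →ₗ[k] R[T;T⁻¹]) :=
  toConv ((cst k R).toLinearMap ∘ₗ X.ofConv)

/-- A coefficient of a form. -/
abbrev gam (n : ℤ) (F : WithConv (H →ₗ[k] R[T;T⁻¹])) : WithConv (H →ₗ[k] R) :=
  toConv (lco k R n ∘ₗ F.ofConv)

theorem gam_mul_cstF (n : ℤ) (F : WithConv (H →ₗ[k] R[T;T⁻¹])) (Y : WithConv (H →ₗ[k] R)) :
    gam n (F * cstF Y) = gam n F * Y := by
  refine WithConv.ext (LinearMap.ext fun a => ?_)
  simp only [LinearMap.convMul_def, ofConv_toConv, LinearMap.comp_apply]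
  generalize comul (R := k) a = t
  induction t using TensorProduct.induction_on with
  | zero => simp
  | add p q hp hq => simp only [map_add, hp, hq]
  | tmul b c =>
    simp only [TensorProduct.map_tmul, LinearMap.mul'_apply, LinearMap.comp_apply, AlgHom.toLinearMap_apply,
      lco_apply, cst_apply]
    rw [mul_comm, ← smul_eq_C_mul, AddMonoidAlgebra.coeff_smul, Finsupp.smul_apply, smul_eq_mul, mul_comm]

theorem tee_coeff (f : k[T;T⁻¹]) (n : ℤ) : (tee k R f).coeff n = algebraMap k R (f.coeff n) :=
  Lmap_coeff (Algebra.ofId k R) f n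

theorem coeff_T_mul (m n : ℤ) (f : R[T;T⁻¹]) : (T m * f).coeff n = f.coeff (n - m) := by
  induction f using LaurentPolynomial.induction_on' with
  | add p q hp hq => simp only [mul_add, AddMonoidAlgebra.coeff_add, Finsupp.add_apply, hp, hq]
  | C_mul_T j a =>
    rw [mul_left_comm, ← T_add, ← single_eq_C_mul_T, ← single_eq_C_mul_T, AddMonoidAlgebra.coeff_single,
      AddMonoidAlgebra.coeff_single, Finsupp.single_apply, Finsupp.single_apply]
    split_ifs <;> first | rfl | omega

theorem gam_tee (n : ℤ) : gam n (lin (pre lam (tee k R))) = wt R lam n :=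
  WithConv.ext (LinearMap.ext fun _ => tee_coeff _ n)

theorem tee_mul_cstF_wt (m : ℤ) :
    lin (pre lam (tee k R)) * cstF (wt R lam m) =
      toConv (LinearMap.mulLeft k (T m) ∘ₗ (cstF (wt R lam m)).ofConv) := by
  refine WithConv.ext (LinearMap.ext fun a => ?_)
  simp only [LinearMap.convMul_def, ofConv_toConv, LinearMap.comp_apply]
  let Ψ : k[T;T⁻¹] ⊗[k] k[T;T⁻¹] →ₗ[k] R[T;T⁻¹] :=
    LinearMap.mul' k R[T;T⁻¹] ∘ₗ TensorProduct.map (tee k R).toLinearMap
      ((cst k R).toLinearMap ∘ₗ Algebra.linearMap k R ∘ₗ lco k k m)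
  have h1 : ∀ t : H ⊗[k] H, LinearMap.mul' k R[T;T⁻¹]
      (TensorProduct.map (lin (pre lam (tee k R))).ofConv (cstF (wt R lam m)).ofConv t) =
      Ψ (TensorProduct.map (lam : H →ₗ[k] k[T;T⁻¹]) (lam : H →ₗ[k] k[T;T⁻¹]) t) := fun t => by
    induction t using TensorProduct.induction_on with
    | zero => simp
    | add p q hp hq => simp only [map_add, hp, hq]
    | tmul b c => rfl
  refine (h1 _).trans ?_
  rw [CoalgHomClass.map_comp_comul_apply]
  show Ψ (comul (R := k) (lam a)) = T m * cst k R (algebraMap k R ((lam a).coeff m))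
  generalize lam a = f
  induction f using LaurentPolynomial.induction_on' with
  | add p q hp hq => simp only [map_add, AddMonoidAlgebra.coeff_add, Finsupp.add_apply, hp, hq, mul_add]
  | C_mul_T j r =>
    rw [show (C r * T j : k[T;T⁻¹]) = r • T j by rw [Algebra.smul_def, C_eq_algebraMap], map_smul, map_smul,
      LaurentPolynomial.comul_T, AddMonoidAlgebra.coeff_smul, Finsupp.smul_apply]
    simp only [Ψ, LinearMap.comp_apply, TensorProduct.map_tmul, LinearMap.mul'_apply, AlgHom.toLinearMap_apply,
      tee_T, lco_apply, Algebra.linearMap_apply, smul_eq_mul, map_mul]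
    rw [show (T j : k[T;T⁻¹]).coeff m = if j = m then 1 else 0 by
      rw [T, AddMonoidAlgebra.coeff_single, Finsupp.single_apply]]
    split_ifs with hjm
    · subst hjm
      rw [map_one, map_one, mul_one, mul_one, AlgHom.commutes, Algebra.smul_def, mul_comm]
    · rw [map_zero, map_zero, mul_zero, smul_zero, mul_zero, mul_zero]

theorem mul_shift (F G : WithConv (H →ₗ[k] R[T;T⁻¹])) (m : ℤ) :
    F * toConv (LinearMap.mulLeft k (T m) ∘ₗ G.ofConv) =
      toConv (LinearMap.mulLeft k (T m) ∘ₗ (F * G).ofConv) := by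
  refine WithConv.ext (LinearMap.ext fun a => ?_)
  simp only [LinearMap.convMul_def, ofConv_toConv, LinearMap.comp_apply]
  generalize comul (R := k) a = t
  induction t using TensorProduct.induction_on with
  | zero => simp
  | add p q hp hq => simp only [map_add, hp, hq]
  | tmul b c =>
    simp only [TensorProduct.map_tmul, LinearMap.mul'_apply, LinearMap.comp_apply, LinearMap.mulLeft_apply]
    ring

theorem cstF_mul (X Y : WithConv (H →ₗ[k] R)) : cstF (X * Y) = cstF X * cstF Y :=
  WithConv.ext (LinearMap.algHom_comp_convMul_distrib (cst k R) X Y)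

/-- The fundamental weight identity. -/
theorem wt_mul_mul_wt (x : Pt k H R) (n m : ℤ) :
    wt R lam n * lin x * wt R lam m = gam (n - m) (lin (conj R lam x)) * wt R lam m := by
  have hc : lin (pre lam (tee k R)) * cstF (lin x) = lin (conj R lam x) * lin (pre lam (tee k R)) := by
    rw [show cstF (lin x) = lin (push (cst k R) x) from rfl, ← lin_mul, ← lin_mul, conj_apply,
      inv_mul_cancel_right]
  calc wt R lam n * lin x * wt R lam m
      = gam n (lin (pre lam (tee k R))) * (lin x * wt R lam m) := by rw [gam_tee, mul_assoc]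
    _ = gam n (lin (conj R lam x) * (lin (pre lam (tee k R)) * cstF (wt R lam m))) := by
      rw [← gam_mul_cstF, cstF_mul, ← mul_assoc, hc, mul_assoc]
    _ = gam n (toConv (LinearMap.mulLeft k (T m) ∘ₗ (lin (conj R lam x) * cstF (wt R lam m)).ofConv)) := by
      rw [tee_mul_cstF_wt, mul_shift]
    _ = gam (n - m) (lin (conj R lam x) * cstF (wt R lam m)) :=
      WithConv.ext (LinearMap.ext fun a => coeff_T_mul m n _)
    _ = _ := gam_mul_cstF _ _ _

theorem gam_conj (x : Pt k H R) (d : ℤ) (a : H) :
    (gam d (lin (conj R lam x))).ofConv a = ((conj R lam x).ofConv a).coeff d := rfl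

theorem wt_mul_wt (n m : ℤ) : wt R lam n * wt R lam m = if n = m then wt R lam n else 0 := by
  have h := wt_mul_mul_wt lam (1 : Pt k H R) n m
  rw [lin_one, mul_one, map_one] at h
  rw [h]
  have hd : gam (n - m) (lin (1 : Pt k H R[T;T⁻¹])) = if n - m = 0 then (1 : WithConv (H →ₗ[k] R)) else 0 := by
    refine WithConv.ext (LinearMap.ext fun a => ?_)
    show ((1 : Pt k H R[T;T⁻¹]).ofConv a).coeff (n - m) = _
    rw [one_apply, coeff_eps]
    split_ifs <;> rfl
  rw [hd]
  by_cases h' : n = m
  · subst h'; simp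
  · rw [if_neg (by omega), if_neg h', zero_mul]

theorem wt_limSub_eq_zero {p : Pt k H R} (hp : p ∈ limSub R lam) {n m : ℤ} (h : n < m) :
    wt R lam n * lin p * wt R lam m = 0 := by
  rw [wt_mul_mul_wt, show gam (n - m) (lin (conj R lam p)) = 0 from
    WithConv.ext (LinearMap.ext fun a => mem_limSub_neg_coeff hp a (by omega)), zero_mul]

theorem wt_oneSub_neg {lamNeg : H →ₐc[k] k[T;T⁻¹]}
    (hneg : (lamNeg : H →ₐ[k] k[T;T⁻¹]) = Dyn.negParam k H lam) {u : Pt k H R} (hu : u ∈ oneSub R lamNeg) :
    (∀ n m, m < n → wt R lam n * lin u * wt R lam m = 0) ∧ ∀ m, wt R lam m * lin u * wt R lam m = wt R lam m := by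
  constructor
  · intro n m h
    rw [wt_mul_mul_wt, show gam (n - m) (lin (conj R lam u)) = 0 from
      WithConv.ext (LinearMap.ext fun a => ?_), zero_mul]
    have := mem_limSub_neg_coeff (oneSub_le_limSub _ hu) a (n := -(n - m)) (by omega)
    rwa [conj_neg hneg, push_apply, inv'_coeff, _root_.neg_neg] at this
  · intro m
    rw [wt_mul_mul_wt, sub_self, show gam 0 (lin (conj R lam u)) = 1 from
      WithConv.ext (LinearMap.ext fun a => ?_), one_mul]
    have := oneSub_coeff_zero hu a
    rw [conj_neg hneg, push_apply, inv'_coeff, neg_zero] at this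
    exact this

theorem exists_weights_coeff (f : k[T;T⁻¹]) :
    ∃ F₀ : Finset ℤ, ∀ F, F₀ ⊆ F → ∑ n ∈ F, f.coeff n = counit (R := k) f := by
  induction f using LaurentPolynomial.induction_on' with
  | add p q hp hq =>
    obtain ⟨P, hP⟩ := hp
    obtain ⟨Q, hQ⟩ := hq
    refine ⟨P ∪ Q, fun F hF => ?_⟩
    simp only [map_add, AddMonoidAlgebra.coeff_add, Finsupp.add_apply, Finset.sum_add_distrib,
      hP F (Finset.union_subset_left hF), hQ F (Finset.union_subset_right hF)]
  | C_mul_T j r =>
    refine ⟨{j}, fun F hF => ?_⟩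
    rw [Finset.singleton_subset_iff] at hF
    rw [show (C r * T j : k[T;T⁻¹]) = r • T j by rw [Algebra.smul_def, C_eq_algebraMap], map_smul,
      LaurentPolynomial.counit_T]
    simp only [AddMonoidAlgebra.coeff_smul, Finsupp.smul_apply, T, AddMonoidAlgebra.coeff_single,
      Finsupp.single_apply]
    simp [Finset.sum_ite_eq, hF]

theorem exists_weights (V : Type u) [AddCommGroup V] [Module k V] [Comod k H V] [Module.Finite k V] :
    ∃ F : Finset ℤ, ∑ n ∈ F, actHom k H R V (wt R lam n) = 1 := by
  classical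
  have h : ∀ t : V ⊗[k] H, ∃ F₀ : Finset ℤ, ∀ F, F₀ ⊆ F →
      ∑ n ∈ F, (wt R lam n).ofConv.lTensor V t =
        (Algebra.linearMap k R ∘ₗ counit).lTensor V t := by
    intro t
    induction t using TensorProduct.induction_on with
    | zero => exact ⟨∅, fun F _ => by simp⟩
    | tmul v a =>
      obtain ⟨F₀, hF₀⟩ := exists_weights_coeff (lam a)
      refine ⟨F₀, fun F hF => ?_⟩
      simp only [LinearMap.lTensor_tmul, wt, ofConv_toConv, LinearMap.comp_apply, lco_apply,
        Algebra.linearMap_apply, AlgHom.toLinearMap_apply, BialgHom.coe_toAlgHom]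
      rw [← TensorProduct.tmul_sum, ← map_sum, hF₀ F hF, CoalgHomClass.counit_comp_apply]
    | add x y hx hy =>
      obtain ⟨P, hP⟩ := hx
      obtain ⟨Q, hQ⟩ := hy
      exact ⟨P ∪ Q, fun F hF => by
        simp only [map_add, Finset.sum_add_distrib, hP F (Finset.union_subset_left hF),
          hQ F (Finset.union_subset_right hF)]⟩
  obtain ⟨s, hs⟩ := Module.Finite.fg_top (R := k) (M := V)
  choose F₀ hF₀ using fun v : V => h (Comod.coact v)
  refine ⟨s.biUnion F₀, ?_⟩
  rw [← act_one (k := k) (H := H) (R := R) (V := V)]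
  refine act_ext fun v => ?_
  have hv : v ∈ Submodule.span k (s : Set V) := hs ▸ Submodule.mem_top
  induction hv using Submodule.span_induction with
  | zero => simp
  | add x y _ _ hx hy => simp only [TensorProduct.tmul_add, map_add, hx, hy]
  | smul c x _ hx =>
    rw [TensorProduct.tmul_smul, ← algebraMap_smul R c ((1 : R) ⊗ₜ[k] x), map_smul, map_smul, hx]
  | mem x hx =>
    simp only [LinearMap.sum_apply, act_tmul, one_smul]
    show ∑ n ∈ s.biUnion F₀, act (wt R lam n).ofConv (1 ⊗ₜ[k] x) = _
    simp only [act_tmul, one_smul]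
    rw [← map_sum, hF₀ x _ (Finset.subset_biUnion_of_mem F₀ hx)]
    rfl

end Weight

section Field

variable {k : Type u} [Field k] {H : Type u} [CommRing H] [HopfAlgebra k H]
  {A : Type u} [CommRing A] [HopfAlgebra k A] {R : Type u} [CommRing R] [Algebra k R]

/-- Restriction of points along a homomorphism. -/
def pull (π : H →ₐc[k] A) : Pt k A R →* Pt k H R where
  toFun g := toConv (g.ofConv.comp (π : H →ₐ[k] A))
  map_one' := WithConv.ext (AlgHom.ext fun a => by
    simp only [AlgHom.comp_apply, BialgHom.coe_toAlgHom, AlgHom.convOne_apply,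
      CoalgHomClass.counit_comp_apply])
  map_mul' g h := congrArg toConv (AlgHom.convMul_comp_bialgHom_distrib g h π)

theorem pull_injective (π : H →ₐc[k] A) (hπ : Function.Surjective π) :
    Function.Injective (pull (R := R) π) := fun g h e => WithConv.ext (AlgHom.ext fun a => by
  obtain ⟨b, rfl⟩ := hπ a
  exact congrArg (fun q : Pt k H R => q.ofConv b) e)

theorem conj_pull (π : H →ₐc[k] A) (lam : A →ₐc[k] k[T;T⁻¹]) (g : Pt k A R) :
    conj R (lam.comp π) (pull π g) = pull π (conj R lam g) := by
  rw [conj_apply, conj_apply, map_mul, map_mul, map_inv]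
  rfl

theorem pull_mem_limSub_iff (π : H →ₐc[k] A) (hπ : Function.Surjective π) (lam : A →ₐc[k] k[T;T⁻¹])
    (g : Pt k A R) : pull π g ∈ limSub R (lam.comp π) ↔ g ∈ limSub R lam := by
  constructor
  · intro h
    obtain ⟨q, hq⟩ := exists_push_jay (conj R lam g) fun a n hn => by
      obtain ⟨b, rfl⟩ := hπ a
      have := mem_limSub_neg_coeff h b hn
      rwa [conj_pull] at this
    exact ⟨q, hq⟩
  · rintro ⟨q, hq⟩
    exact ⟨pull π q, by rw [conj_pull, ← hq]; rfl⟩

theorem pull_mem_oneSub_iff (π : H →ₐc[k] A) (hπ : Function.Surjective π) (lam : A →ₐc[k] k[T;T⁻¹])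
    (g : Pt k A R) : pull π g ∈ oneSub R (lam.comp π) ↔ g ∈ oneSub R lam := by
  constructor
  · intro h
    refine mem_oneSub_of_coeff (fun a n hn => ?_) fun a => ?_
    · obtain ⟨b, rfl⟩ := hπ a
      have := mem_limSub_neg_coeff (oneSub_le_limSub _ h) b hn
      rwa [conj_pull] at this
    · obtain ⟨b, rfl⟩ := hπ a
      have := oneSub_coeff_zero h b
      rw [conj_pull] at this
      refine this.trans ?_
      rw [eps, eps, CoalgHomClass.counit_comp_apply]
  · intro h
    refine mem_oneSub_of_coeff (fun a n hn => ?_) fun a => ?_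
    · rw [conj_pull]; exact mem_limSub_neg_coeff (oneSub_le_limSub _ h) (π a) hn
    · rw [conj_pull]
      refine (oneSub_coeff_zero h (π a)).trans ?_
      rw [eps, eps, CoalgHomClass.counit_comp_apply]

theorem negParam_comp (π : H →ₐc[k] A) {lam lamNeg : A →ₐc[k] k[T;T⁻¹]}
    (hneg : (lamNeg : A →ₐ[k] k[T;T⁻¹]) = Dyn.negParam k A lam) :
    ((lamNeg.comp π : H →ₐc[k] k[T;T⁻¹]) : H →ₐ[k] k[T;T⁻¹]) = Dyn.negParam k H (lam.comp π) :=
  AlgHom.ext fun a => DFunLike.congr_fun hneg (π a)

/-- If a product of contracted points lies in a closed subgroup then so do its factors. -/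
theorem exists_factor (π : H →ₐc[k] A) (hπ : Function.Surjective π) {lam lamNeg : A →ₐc[k] k[T;T⁻¹]}
    (hneg : (lamNeg : A →ₐ[k] k[T;T⁻¹]) = Dyn.negParam k A lam) {u p : Pt k H R} {g : Pt k A R}
    (hu : u ∈ oneSub R (lamNeg.comp π)) (hp : p ∈ limSub R (lam.comp π)) (hg : pull π g = u * p) :
    ∃ u' p' : Pt k A R, u' ∈ oneSub R lamNeg ∧ p' ∈ limSub R lam ∧ pull π u' = u ∧ pull π p' = p := by
  classical
  have hnegH := negParam_comp π hneg
  have key : ∀ f : H, π f = 0 → p.ofConv f = 0 := by
    intro f hf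
    obtain ⟨V₀, hfin, hfV, hsub⟩ :=
      Groth.Agent.HopfLib.exists_finite_subcomod (k := k) (A := H) (V := H) {f} (Set.finite_singleton f)
    letI : Comod k H V₀ := ComodSub.Comod.restr (Comod.regular k H) V₀ hsub
    haveI : Module.Finite k V₀ := hfin
    let q : V₀ →ₗ[k] A := (π : H →ₗ[k] A) ∘ₗ V₀.subtype
    have hq : ∀ v, comul (R := k) (q v) =
        TensorProduct.map q (π : H →ₗ[k] A) (Comod.coact (k := k) (A := H) (V := V₀) v) := fun v => by
      have := ComodSub.restr_coact_coe (Comod.regular k H) V₀ hsub v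
      show comul (R := k) (π (v : H)) = _
      rw [← CoalgHomClass.map_comp_comul_apply,
        show comul (R := k) (v : H) = V₀.subtype.rTensor H (Comod.coact v) from this.symm,
        ← LinearMap.comp_apply, LinearMap.map_comp_rTensor]
    set W := LinearMap.ker (q.baseChange R)
    let E := Module.End R (R ⊗[k] V₀)
    let Φ := actHom k H R V₀
    have hmem : ∀ φ : A →ₗ[k] R, Φ (toConv (φ ∘ₗ (π : H →ₗ[k] A))) ∈ stabRing W := fun φ x hx => by
      rw [LinearMap.mem_ker] at hx ⊢
      show q.baseChange R (act (φ ∘ₗ (π : H →ₗ[k] A)) x) = 0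
      rw [act_natural π q hq, hx, map_zero]
    let L : Pt k H R →* WithConv (H →ₗ[k] R) := ⟨⟨lin, lin_one⟩, lin_mul⟩
    let up : Pt k H R →* Eˣ := (Units.map (Φ.toMonoidHom.comp L)).comp toUnits.toMonoidHom
    have hup : ∀ x : Pt k H R, (up x : E) = Φ (lin x) := fun x => rfl
    obtain ⟨F, hF⟩ := exists_weights (R := R) (lam.comp π) V₀
    have hzero : ∀ n m (x : Pt k H R), wt R (lam.comp π) n * lin x * wt R (lam.comp π) m = 0 →
        Φ (wt R (lam.comp π) n) * (up x : E) * Φ (wt R (lam.comp π) m) = 0 := fun n m x h => by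
      rw [hup, ← map_mul, ← map_mul, h, map_zero]
    have hP : (up p : E) ∈ stabRing W :=
      mem_of_triangular (stabRing W) (fun x hx => inv_mem_stabRing W x hx) F
        (fun n => Φ (wt R (lam.comp π) n))
        (fun n => hmem (Algebra.linearMap k R ∘ₗ lco k k n ∘ₗ (lam : A →ₐ[k] k[T;T⁻¹]).toLinearMap))
        (fun i j => by rw [← map_mul, wt_mul_wt]; split_ifs <;> simp) hF (up u) (up p)
        (by rw [hup, hup, ← map_mul, ← lin_mul, ← hg]; exact hmem g.ofConv.toLinearMap)
        (fun n m h => hzero n m p (wt_limSub_eq_zero _ hp h))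
        (fun n m h => by rw [← map_inv]; exact hzero n m p⁻¹ (wt_limSub_eq_zero _ (inv_mem hp) h))
        (fun n m h => hzero n m u ((wt_oneSub_neg _ hnegH hu).1 n m h))
        (fun n m h => by rw [← map_inv]; exact hzero n m u⁻¹ ((wt_oneSub_neg _ hnegH (inv_mem hu)).1 n m h))
        (fun m => by
          rw [← map_inv, hup, ← map_mul, ← map_mul, (wt_oneSub_neg _ hnegH (inv_mem hu)).2 m])
    let w : V₀ := ⟨f, hfV (Set.mem_singleton f)⟩
    have hw : ((1 : R) ⊗ₜ[k] w) ∈ W := by
      rw [LinearMap.mem_ker, LinearMap.baseChange_tmul, show q w = π f from rfl, hf, TensorProduct.tmul_zero]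
    have h0 := hP _ hw
    rw [LinearMap.mem_ker, hup] at h0
    have h1 := congrArg ((TensorProduct.rid k R).toLinearMap ∘ₗ LinearMap.lTensor R (counit (R := k) (A := A))) h0
    rw [map_zero] at h1
    refine Eq.trans ?_ h1
    show _ = ((TensorProduct.rid k R).toLinearMap ∘ₗ LinearMap.lTensor R (counit (R := k) (A := A)))
      (q.baseChange R (act (lin p).ofConv (1 ⊗ₜ[k] w)))
    rw [act_tmul, one_smul]
    have e : ∀ t : V₀ ⊗[k] H, ((TensorProduct.rid k R).toLinearMap ∘ₗ LinearMap.lTensor R (counit (R := k) (A := A)))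
        (q.baseChange R (TensorProduct.comm k V₀ R ((lin p).ofConv.lTensor V₀ t))) =
        p.ofConv (TensorProduct.lid k H ((counit (R := k) (A := H)).rTensor H (V₀.subtype.rTensor H t))) := by
      intro t
      induction t using TensorProduct.induction_on with
      | zero => simp
      | add x y hx hy => simp only [map_add, hx, hy]
      | tmul a b => simp [q]
    rw [e, ComodSub.restr_coact_coe (Comod.regular k H) V₀ hsub w]
    show _ = p.ofConv (TensorProduct.lid k H ((counit (R := k) (A := H)).rTensor H (comul (R := k) f)))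
    rw [Coalgebra.rTensor_counit_comul]
    simp
  let p' : Pt k A R := toConv (AlgHom.liftOfSurjective (π : H →ₐ[k] A) hπ p.ofConv fun f hf => key f hf)
  have hp' : pull π p' = p := WithConv.ext (AlgHom.liftOfSurjective_comp _ _ _ _)
  have hu' : pull π (g * p'⁻¹) = u := by rw [map_mul, map_inv, hg, hp', mul_inv_cancel_right]
  exact ⟨g * p'⁻¹, p', (pull_mem_oneSub_iff π hπ lamNeg _).1 (hu'.symm ▸ hu),
    (pull_mem_limSub_iff π hπ lam _).1 (hp'.symm ▸ hp), hu', hp'⟩

end Field

end Groth.Agent.DynLib
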